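import Cfsg.Agent.Lib.HR.Sp

/-!
Even degree: the structure of the point stabilizer.
-/

set_option autoImplicit false

namespace Cfsg.Lib.HR

open MulAction Subgroup Cfsg.Lib.Perm Cfsg.Lib.BG Cfsg.Lib.BG.A10 Cfsg.Lib.GW Cfsg.Lib.Small
open Cfsg.Lib.TT Cfsg.Lib.JR
open Cfsg.Lib.Inv hiding conj_mem_of_mem_normalizer orderOf_eq_of_isConj
open scoped Cfsg.Lib.Transfer

theorem ree_idx {i q : ℕ} (hq : 1 < q) (h : q * (q ^ 2 - 1) * i = q ^ 3 * (q ^ 3 + 1) * (q - 1)) :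
    i = q ^ 2 * (q * (q - 1) + 1) := by
  obtain ⟨r, rfl⟩ := Nat.exists_eq_add_of_lt hq
  rw [show (1 + r + 1) ^ 2 - 1 = (r + 1) * (r + 3) from Nat.sub_eq_of_eq_add (by ring),
    show 1 + r + 1 - 1 = r + 1 by omega] at h
  refine Nat.eq_of_mul_eq_mul_left (show 0 < (1 + r + 1) * ((r + 1) * (r + 3)) by positivity) ?_
  rw [h, show 1 + r + 1 - 1 = r + 1 by omega]; ring

theorem cop3 {m n : ℕ} (k : ℕ) (h : ¬ 3 ∣ n) (e : 3 ^ k ∣ m * n) : 3 ^ k ∣ m :=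
  Nat.Coprime.dvd_of_dvd_mul_right (Nat.Coprime.pow_left k
    ((Nat.Prime.coprime_iff_not_dvd Nat.prime_three).2 h)) e

theorem three_pow (j : ℕ) : ∃ r, 3 ^ (2 * j + 1) = 3 * r + 3 :=
  ⟨3 ^ (2 * j) - 1, by have := Nat.one_le_pow (2 * j) 3 (by norm_num); rw [pow_succ]; omega⟩

theorem n3_sq (j : ℕ) : ¬ 3 ∣ (3 ^ (2 * j + 1)) ^ 2 - 1 := by
  obtain ⟨r, e⟩ := three_pow j
  rw [e, show (3 * r + 3) ^ 2 = 3 * (3 * (r + 1) ^ 2 - 1) + 3 by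
    have : 1 ≤ 3 * (r + 1) ^ 2 := Nat.succ_le_of_lt (by positivity)
    zify [this]; ring]
  omega

variable {G : Type*} {Ω : Type*} [Group G] [MulAction G Ω] {a b c d : Ω} {t u s g x y z v w : G}
  {T K L D : Subgroup G} [Finite G]

theorem cmp (hL : SA L) (hD : SA D) (hle : D ≤ L) (hT : Syl 2 T L) (hTD : T ≤ D)
    (h4 : Nat.card T ≠ 4) (ht : t ∈ T) (t1 : t ≠ 1) : D = L ∨ Nat.card T = 8 ∧
      3 * Nat.card ↥(D ⊓ 𝐂[t]) ∣ Nat.card ↥(L ⊓ 𝐂[t]) ∧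
      ∃ e, 3 ^ e ∣ 𝐂[t].relIndex L ∧ ¬ 3 ^ e ∣ 𝐂[t].relIndex D := by
  have d1 := card_dvd hle
  have d2 := card_dvd (inf_le_inf_right 𝐂[t] hle)
  have c1 := card_mul_relIndex (inf_le_left : L ⊓ 𝐂[t] ≤ L)
  have c2 := card_mul_relIndex (inf_le_left : D ⊓ 𝐂[t] ≤ D)
  rw [inf_relIndex_left] at c1 c2
  have eq : Nat.card D = Nat.card L → D = L := fun e => eq_of_le_of_card_le hle e.ge
  rcases (hL.tri hT).resolve_left h4 with h1 | h1 <;>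
    rcases (hD.tri (hT.of_le hTD hle)).resolve_left h4 with h2 | h2
  · exact .inl (eq (h2.card.trans h1.card.symm))
  · have h2 := h2 t ht t1
    rw [h1.cent t ht t1, h2.eight] at d2
    rcases h2.ord with ⟨-, e⟩ | ⟨j, -, -, e⟩ <;> rw [e] at d2
    · omega
    · exact absurd ((dvd_pow_self 3 (by omega)).trans ((Dvd.intro _ rfl).trans d2)) (by decide)
  · have h1 := h1 t ht t1
    rw [h2.cent t ht t1, h1.eight] at d2 c2 ⊢
    rw [h2.card, h1.eight] at d1 c2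
    rcases h1.ord with ⟨e, -⟩ | ⟨j, hj, e, e'⟩
    · omega
    rw [e, e'] at c1
    obtain ⟨j, rfl⟩ := Nat.exists_eq_add_of_le' hj
    refine .inr ⟨rfl, Nat.Coprime.mul_dvd_of_dvd_of_dvd (by decide)
      (e' ▸ Dvd.dvd.mul_right (dvd_pow_self 3 (by omega)) _) d2, 3, ?_, by omega⟩
    rw [ree_idx (Nat.one_lt_pow (by omega) (by norm_num)) c1, ← pow_mul]
    exact Dvd.dvd.mul_right (pow_dvd_pow 3 (by omega)) _
  have h1 := h1 t ht t1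
  have h2 := h2 t ht t1
  rcases h1.ord with ⟨e1, e2⟩ | ⟨j, hj, e1, e2⟩ <;> rcases h2.ord with ⟨e3, e4⟩ | ⟨k, hk, e3, e4⟩
  · exact .inl (eq (e3.trans e1.symm))
  · rw [e1, e3, mul_assoc, ← pow_mul] at d1
    exact absurd ((pow_dvd_pow 3 (show 3 ≤ (2 * k + 1) * 3 by omega)).trans
      ((Dvd.intro _ rfl).trans d1)) (by decide)
  · rw [e1, e2] at c1
    rw [e3, e4] at c2
    rw [e4] at d2 ⊢
    refine .inr ⟨h1.eight, Nat.Coprime.mul_dvd_of_dvd_of_dvd (m := 3 ^ 2) (n := 40) (by decide)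
      (e2 ▸ Dvd.dvd.mul_right (pow_dvd_pow 3 (by omega)) _) (.trans ⟨3, rfl⟩ d2), 1, ?_, by omega⟩
    rw [ree_idx (Nat.one_lt_pow (by omega) (by norm_num)) c1, ← pow_mul]
    exact Dvd.dvd.mul_right (pow_dvd_pow 3 (by omega)) _
  rcases lt_trichotomy j k with h | rfl | h
  · rw [e1, e3, mul_assoc, mul_assoc, ← pow_mul, ← pow_mul] at d1
    refine absurd ((Nat.pow_dvd_pow_iff_le_right (by norm_num)).1
      (cop3 _ (fun e => ?_) ((Dvd.intro _ rfl).trans d1))) (by omega)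
    obtain ⟨r, e'⟩ := three_pow j
    rcases (Nat.Prime.dvd_mul Nat.prime_three).1 e with e | e
    · exact absurd ((Nat.dvd_add_right (dvd_pow_self 3 (by omega))).1 e) (by decide)
    · omega
  · exact .inl (eq (e3.trans e1.symm))
  rw [e1, e2] at c1
  rw [e3, e4] at c2
  rw [e2, e4] at d2 ⊢
  refine .inr ⟨h1.eight, ?_, (2 * j + 1) * 2, ?_, fun e => ?_⟩
  · rw [← mul_assoc, ← pow_succ']
    exact Nat.mul_dvd_mul (pow_dvd_pow 3 (by omega)) (Nat.Coprime.dvd_of_dvd_mul_left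
      (Nat.Coprime.pow_right _ ((Nat.Prime.coprime_iff_not_dvd Nat.prime_three).2 (n3_sq k)).symm)
      ((Dvd.intro_left _ rfl).trans d2))
  · rw [ree_idx (Nat.one_lt_pow (by omega) (by norm_num)) c1, ← pow_mul]
    exact Dvd.intro _ rfl
  rw [ree_idx (Nat.one_lt_pow (by omega) (by norm_num)) c2, ← pow_mul] at e
  refine absurd ((Nat.pow_dvd_pow_iff_le_right (by norm_num)).1 (cop3 _ (fun e => ?_) e)) (by omega)
  exact absurd ((Nat.dvd_add_right (Dvd.dvd.mul_right (dvd_pow_self 3 (by omega)) _)).1 e) (by decide)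

theorem sa_closure (hO : oddCore G = ⊥) (hD : SA D) (hT : Syl 2 T ⊤) (hTD : T ≤ D) :
    D ≤ normalClosure (T : Set G) ∧ SA (normalClosure (T : Set G)) := by
  set L := normalClosure (T : Set G)
  have nL : ∀ g, g ∈ 𝐍(L) := fun g => by rw [normalizer_eq_top]; trivial
  have hTL : T ≤ L := subset_normalClosure
  obtain ⟨t, ht, t1, -⟩ := Ab.exists_two_ne (hD.kn.ge T (hT.of_le hTD le_top)) 1 1
  have hDL : D ≤ L := hD.le_of_inf (fun g _ => nL g) (hTD ht) (hTL ht) t1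
  have hS := hT.of_le hTL le_top
  have key : ∀ N ≤ L, L ≤ 𝐍(N) → N ≠ ⊥ → L ≤ N := fun N h1 h2 h3 => by
    have h4 : 2 ∣ Nat.card N := by_contra fun h4 => h3 (eq_bot_iff.2 ((le_Od ⟨h1, h2⟩
      (Nat.odd_iff.2 (by omega))).trans ((le_Od ⟨le_top, fun g _ => norm_pcore (H := L)
        (A := ⊤) (fun g _ => nL g) _ (mem_top g)⟩ (odd_Od L)).trans (by rw [Od_top_eq, hO]))))
    obtain ⟨v, hv, v1⟩ := exists_ne_one (Syl.ne_bot' (hS.inf_nml ⟨h1, h2⟩) h4)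
    have h5 := hTD.trans (hD.le_of_inf (hDL.trans h2) (hTD hv.1) hv.2 v1)
    refine (closure_le _).2 fun x hx => ?_
    obtain ⟨y, hy, e⟩ := Group.mem_conjugatesOfSet_iff.1 hx
    obtain ⟨g, rfl⟩ := isConj_iff.1 e
    obtain ⟨k, hk, e⟩ := Syl.exists_le_conj hS ((pgroup_conj g).2 hT.pgroup)
      (conj_le_of_norm hTL (nL g))
    exact conj_le_of_norm h5 (h2 hk) (e (mem_map_of_mem _ hy))
  obtain ⟨P, rfl⟩ := syl_top_iff_sylow.1 hT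
  refine ⟨hDL, (isSimpleGroup_iff L).2 ⟨(nontrivial_iff_ne_bot L).2 (ne_bot_of_mem (hTL ht) t1),
    fun N hN => or_iff_not_imp_left.2 fun h1 => ?_⟩, fun e => hD.nab (abelian_of_le e hDL),
    (ab2_of_sylow P (hD.comm P.2 hTD)).sub L⟩
  refine eq_top_iff.2 fun x _ => ?_
  obtain ⟨y, hy, e⟩ := key (N.map L.subtype) (map_subtype_le N) (le_norm_iff.2 (by
    rintro g hg _ ⟨y, hy, rfl⟩
    exact mem_map_of_mem L.subtype (hN.conj_mem y hy ⟨g, hg⟩)))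
    (fun e => h1 ((map_eq_bot_iff_of_injective N L.subtype_injective).1 e)) x.2
  exact Subtype.ext e ▸ hy

theorem hs_top (hD : SA D) (hT : Syl 2 T ⊤) (hTD : T ≤ D) (h4 : Nat.card T ≠ 4) (f : FourGen t u)
    (ht : t ∈ T) (hu : u ∈ T) : ∃ ω i κ : ℕ, 𝐂[t].index = i * ω ∧ ω ∣ κ ^ 2 ∧
      κ * Nat.card ↥(D ⊓ 𝐂[t]) ∣ Nat.card 𝐂[t] ∧
      ((oddCore G ⊔ D).Normal ∧ i = 𝐂[t].relIndex D ∨ Nat.card T = 8 ∧
        3 * Nat.card ↥(D ⊓ 𝐂[t]) ∣ Nat.card 𝐂[t] ∧ ∃ e, 3 ^ e ∣ i ∧ ¬ 3 ^ e ∣ 𝐂[t].relIndex D) := by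
  set O := oddCore G
  set π := QuotientGroup.mk' O
  have hO : Odd (Nat.card O) := Core.odd_card_oddCore G
  have hπ : Function.Surjective π := QuotientGroup.mk'_surjective O
  have hk : π.ker = O := QuotientGroup.ker_mk' O
  have hN : ∀ g, g ∈ 𝐍(O) := fun g => by rw [normalizer_eq_top]; trivial
  have k4 : ∀ K : Subgroup G, t ∈ K → (K ⊓ 𝐂[t]).map π = K.map π ⊓ 𝐂[π t] :=
    fun K hv => le_antisymm (by
      rintro _ ⟨x, hx, rfl⟩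
      exact ⟨mem_map_of_mem _ hx.1, mem_cent1.2 (by rw [← map_mul, mem_cent1.1 hx.2, map_mul])⟩) (by
      rintro _ ⟨⟨x, hx, rfl⟩, hc⟩
      obtain ⟨k, hk', e'⟩ := exists_conj_of_mul_mem (K := K ⊓ O) (x := x * t * x⁻¹) (by
        rw [← cj_mul, f.sq, mul_one, mul_inv_cancel]) f.sq (odd_of_le hO inf_le_right) (mem_inf.2
          ⟨mul_mem (mul_mem (mul_mem hx hv) (inv_mem hx)) hv, hk ▸ (show π _ = 1 by
            rw [map_mul, map_mul, map_mul, map_inv, cent1_iff.1 hc, ← map_mul, f.sq, map_one])⟩)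
      refine ⟨k * x, ⟨mul_mem hk'.1 hx, cent1_iff.2 (.trans (by group) e')⟩, ?_⟩
      rw [map_mul, show π k = 1 from hk.ge hk'.2, one_mul])
  have hDO : D ⊓ π.ker = ⊥ := (hD.nml inf_le_left (norm_inf (le_norm D) fun g _ => hk.symm ▸ hN g)
    ).resolve_right fun e => inv_not_mem_odd hO f.orderOf_eq (hk ▸ (e.ge (hTD ht)).2)
  have cm : ∀ K ≤ D, Nat.card (K.map π) = Nat.card K := fun K hK =>
    (Nat.card_congr (mapEquiv π (BG.eq_bot_mono hDO (inf_le_inf_right _ hK))).toEquiv).symm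
  have hT' : Syl 2 (T.map π) ⊤ := map_top_of_surjective π hπ ▸ hT.map π
  have hD' := hD.of_equiv (mapEquiv π hDO)
  have t1 : π t ≠ 1 := fun e => inv_not_mem_odd hO f.orderOf_eq (hk ▸ e)
  have ht' := mem_map_of_mem π ht
  obtain ⟨h1, hL⟩ := sa_closure (Core.pPrimeCore_quotient_pPrimeCore 2 G) hD' hT' (map_mono hTD)
  set L := normalClosure ((T.map π : Subgroup _) : Set (G ⧸ O))
  have hS := hT'.of_le (subset_normalClosure : T.map π ≤ L) le_top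
  have m1 := k4 ⊤ (mem_top _)
  rw [top_inf_eq, map_top_of_surjective _ hπ, top_inf_eq] at m1
  have m2 := cm _ (inf_le_left : D ⊓ 𝐂[t] ≤ D)
  rw [k4 D (hTD ht)] at m2
  have c1 := Core.card_map_mul_card_inf_ker π 𝐂[t]
  rw [hk, m1, inf_comm] at c1
  have c3 := ZD.bw hO f.sq f.sq' f.comm (hN _) (hN _)
  have c4 : ∀ v ∈ T, orderOf v = 2 → Nat.card ↥(O ⊓ 𝐂[v]) = Nat.card ↥(O ⊓ 𝐂[t]) := fun v hv o => by
    obtain ⟨r, -, rfl⟩ := hD.one (hT.of_le hTD le_top) ht f.ne_one (hTD hv) o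
    rw [← conj_cent1, ← Transfer.card_conj r (O ⊓ 𝐂[t]), Transfer.conj_inf, conj_eq_of_norm (hN r)]
  rw [c4 u hu f.orderOf_eq', c4 _ (mul_mem ht hu) (four_mul_ord f),
    ← card_mul_relIndex (inf_le_left : O ⊓ 𝐂[t] ≤ O)] at c3
  have e1 : 𝐂[π t].index = 𝐂[π t].relIndex L := by
    have h2 := ncard_conj_mul ⊤ (π t)
    have h3 := ncard_conj_mul L (π t)
    rw [show {s | ∃ c ∈ (⊤ : Subgroup _), c * π t * c⁻¹ = s} = {s | ∃ c ∈ L, c * π t * c⁻¹ = s} from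
      Set.ext fun x => ⟨fun ⟨c, _, e⟩ => hL.one hS ht' t1 (e ▸ normalClosure_normal.conj_mem _
        (hS.le ht') c) (e ▸ ord_conj (orderOf_eq_two_iff.2 ⟨t1, by rw [← map_mul, f.sq, map_one]⟩) c),
        fun ⟨c, _, e⟩ => ⟨c, trivial, e⟩⟩, top_inf_eq, card_top, ← 𝐂[π t].card_mul_index] at h2
    rw [← card_mul_relIndex (inf_le_left : L ⊓ 𝐂[π t] ≤ L), inf_relIndex_left] at h3
    exact (Nat.eq_of_mul_eq_mul_left Nat.card_pos (h2.symm.trans (mul_comm ..))).trans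
      (Nat.eq_of_mul_eq_mul_left Nat.card_pos (h3.symm.trans (mul_comm ..))).symm
  have e2 : 𝐂[π t].relIndex (D.map π) = 𝐂[t].relIndex D := by
    have h2 := card_mul_relIndex (inf_le_left : D ⊓ 𝐂[t] ≤ D)
    have h3 := card_mul_relIndex (inf_le_left : D.map π ⊓ 𝐂[π t] ≤ _)
    rw [m2, cm D le_rfl, ← h2, inf_relIndex_left, inf_relIndex_left] at h3
    exact Nat.eq_of_mul_eq_mul_left Nat.card_pos h3
  refine ⟨(O ⊓ 𝐂[t]).relIndex O, 𝐂[π t].index, Nat.card ↥(O ⊓ 𝐂[t]), ?_,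
    ⟨Nat.card ↥(O ⊓ 𝐂[t] ⊓ 𝐂[u]) ^ 2, Nat.eq_of_mul_eq_mul_left (Nat.card_pos (α := ↥(O ⊓ 𝐂[t])))
      (by rw [← mul_assoc, c3]; ring)⟩, ?_, ?_⟩
  · refine Nat.eq_of_mul_eq_mul_left (Nat.card_pos (α := 𝐂[t])) ?_
    rw [card_mul_index, card_eq_card_quotient_mul_card_subgroup O, ← 𝐂[π t].card_mul_index, ← c1,
      ← card_mul_relIndex (inf_le_left : O ⊓ 𝐂[t] ≤ O)]
    ring
  · rw [← c1, mul_comm, ← m2]
    exact Nat.mul_dvd_mul_right (card_dvd inf_le_right) _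
  rcases cmp hL hD' h1 hS (map_mono hTD) (by rwa [cm T hTD]) ht' t1 with e | ⟨h5, h6, e, h7, h8⟩
  · refine .inl ⟨?_, by rw [e1, ← e, e2]⟩
    rw [← hk, sup_comm, ← comap_map_eq, e]
    infer_instance
  · rw [m2] at h6
    exact .inr ⟨cm T hTD ▸ h5, h6.trans ((card_dvd inf_le_right).trans ⟨_, c1.symm⟩), e, e1 ▸ h7,
      e2 ▸ h8⟩

namespace St
variable [Finite Ω] (h : St a b T t s)
include h

local notation "𝐃" => stab2 G a b
local notation "𝐇" => stabilizer G a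
local notation "Δ" => fixedBy Ω t

theorem sylH (he : Even (Nat.card Ω)) : Syl 2 T 𝐇 := by
  refine syl_iff.2 ⟨h.le.trans inf_le_left, h.syl.pgroup, fun e => ?_⟩
  have h1 := card_mul_relIndex (h.le.trans inf_le_left)
  have h2 := h.lt_n
  rw [h.dt.card_stab h.ne, ← card_mul_relIndex h.le, mul_left_comm] at h1
  rw [Nat.eq_of_mul_eq_mul_left Nat.card_pos h1] at e
  rcases (Nat.Prime.dvd_mul Nat.prime_two).1 e with e | e
  exacts [(Nat.Even.sub_odd (by omega) he odd_one).not_two_dvd_nat e, h.syl.not_dvd' e]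

theorem cardHt : Nat.card ↥(𝐇 ⊓ 𝐂[t]) = Nat.card ↥(𝐃 ⊓ 𝐂[t]) * ((Δ).ncard - 1) := by
  rw [inf_comm, h.twoX.card_stab h.tD.1 h.tD.2 h.ne, inf_comm]

omit [Finite Ω] in
theorem relD : 𝐂[t].relIndex 𝐃 = {x | x ∈ 𝐃 ∧ orderOf x = 2}.ncard := by
  have h1 := card_mul_relIndex (inf_le_left : 𝐃 ⊓ 𝐂[t] ≤ _)
  rw [inf_relIndex_left, ← h.ncard_inv, mul_comm] at h1
  exact Nat.eq_of_mul_eq_mul_right Nat.card_pos h1

theorem relH : 𝐂[t].relIndex 𝐇 =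
    𝐂[t].relIndex 𝐃 + {x | IsConj t x ∧ x • a = b}.ncard * (Δ).ncard := by
  have h1 := card_mul_relIndex (inf_le_left : 𝐇 ⊓ 𝐂[t] ≤ _)
  have h2 := h.gam
  have h3 := h.two_le_f
  have h4 := h.lt_n
  rw [inf_relIndex_left, h.cardHt, h.dt.card_stab h.ne, ← h.ncard_inv] at h1
  rw [h.relD]
  have h5 : 0 < Nat.card ↥(𝐃 ⊓ 𝐂[t]) := Nat.card_pos
  zify [show 1 ≤ (Δ).ncard by omega, show 1 ≤ Nat.card Ω by omega, h4.le] at h1 h2 ⊢
  exact mul_left_cancel₀ (a := (Nat.card ↥(𝐃 ⊓ 𝐂[t]) : ℤ) * ((Δ).ncard - 1 : ℤ))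
    (mul_ne_zero (by omega) (by omega))
    (by linear_combination h1 - (Nat.card ↥(𝐃 ⊓ 𝐂[t]) : ℤ) * h2)

theorem hs (he : Even (Nat.card Ω)) (h4 : Nat.card T ≠ 4) :
    (∃ O ≤ 𝐇, Odd (Nat.card O) ∧ 𝐇 ≤ 𝐍(O) ∧ 𝐇 ≤ 𝐍(O ⊔ 𝐃) ∧ ∃ ω, ω ∣ ((Δ).ncard - 1) ^ 2 ∧
      𝐂[t].relIndex 𝐇 = 𝐂[t].relIndex 𝐃 * ω) ∨ Nat.card T = 8 ∧ 3 ∣ (Δ).ncard - 1 ∧
      ∃ e, 3 ^ e ∣ 𝐂[t].relIndex 𝐇 ∧ ¬ 3 ^ e ∣ 𝐂[t].relIndex 𝐃 := by
  obtain ⟨u, hu, f⟩ := h.four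
  have hD : 𝐃 ≤ 𝐇 := inf_le_left
  have hT := h.le.trans hD
  have k : 𝐂[(⟨t, hT h.tT⟩ : 𝐇)] = 𝐂[t].subgroupOf 𝐇 :=
    Subgroup.ext fun x => by simp [mem_subgroupOf, mem_centralizer_singleton_iff, Subtype.ext_iff]
  have cs : ∀ K ≤ 𝐇, Nat.card (K.subgroupOf 𝐇) = Nat.card K := fun K hK =>
    Nat.card_congr (subgroupOfEquivOfLe hK).toEquiv
  obtain ⟨ω, i, κ, h1, h2, h3, h5⟩ := hs_top (t := (⟨t, hT h.tT⟩ : 𝐇)) (u := ⟨u, hT hu⟩)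
    (h.sa.of_equiv (subgroupOfEquivOfLe hD).symm) (T := T.subgroupOf 𝐇)
    (subgroupOf_self 𝐇 ▸ (Hall.subgroupOf_iff le_rfl hT).2 (h.sylH he)) (comap_mono h.le)
    (by rwa [cs T hT]) ⟨by simpa using f.1, by simpa using f.2, by simpa using f.3,
      Subtype.ext f.4, Subtype.ext f.5, Subtype.ext f.6⟩ h.tT hu
  have e1 : Nat.card (𝐂[t].subgroupOf 𝐇) = Nat.card ↥(𝐃 ⊓ 𝐂[t]) * ((Δ).ncard - 1) := by
    rw [← inf_subgroupOf_left, cs _ inf_le_left, h.cardHt]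
  have e2 : Nat.card ↥((𝐃).subgroupOf 𝐇 ⊓ 𝐂[t].subgroupOf 𝐇) = Nat.card ↥(𝐃 ⊓ 𝐂[t]) :=
    cs (𝐃 ⊓ 𝐂[t]) (inf_le_left.trans hD)
  rw [k] at h1 h3 h5
  rw [e1, e2, mul_comm] at h3 h5
  rw [relIndex_subgroupOf hD, cs T hT] at h5
  replace h3 := Nat.dvd_of_mul_dvd_mul_left Nat.card_pos h3
  rcases h5 with ⟨h5, rfl⟩ | ⟨h5, h6, e, h7, h8⟩
  · have nm : ∀ N : Subgroup 𝐇, N.Normal → 𝐇 ≤ 𝐍(N.map (𝐇).subtype) := fun N hN =>
      le_norm_iff.2 (by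
        rintro g hg _ ⟨y, hy, rfl⟩
        exact mem_map_of_mem (𝐇).subtype (hN.conj_mem y hy ⟨g, hg⟩))
    refine .inl ⟨(oddCore 𝐇).map (𝐇).subtype, map_subtype_le _, by
      rw [card_map_of_injective (𝐇).subtype_injective]; exact Core.odd_card_oddCore _,
      nm _ inferInstance, ?_, ω, h2.trans (pow_dvd_pow_of_dvd h3 2), h1⟩
    have := nm _ h5
    rwa [Subgroup.map_sup, subgroupOf_map_subtype, inf_eq_left.2 hD] at this
  · exact .inr ⟨h5, Nat.dvd_of_mul_dvd_mul_left Nat.card_pos h6, e, (h7.mul_right ω).trans h1.symm.dvd, h8⟩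

theorem caseC_big (hA : 𝐃 ≤ 𝐂[s]) (hn : ¬ IsConj t s) (he : Even (Nat.card Ω))
    (h4 : Nat.card T ≠ 4) : False := by
  have h1 := h.relH
  rw [h.sigC hA hn, ← h.relD, ← mul_one_add] at h1
  have h2 := h.two_le_f
  have h3 := h.par
  rw [Nat.even_iff.1 he] at h3
  rcases h.hs he h4 with ⟨O, -, -, -, -, ω, h5, h6⟩ | ⟨-, h5, e, h6, h7⟩
  · rw [h1] at h6
    rw [← Nat.eq_of_mul_eq_mul_left (Nat.pos_of_ne_zero index_ne_zero_of_finite) h6] at h5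
    obtain ⟨k, hk⟩ : ∃ k, (Δ).ncard = 2 * k + 2 := ⟨(Δ).ncard / 2 - 1, by omega⟩
    rw [hk, show 2 * k + 2 - 1 = 2 * k + 1 from rfl] at h5
    have h7 : 1 + (2 * k + 2) ∣ 4 := (Nat.dvd_add_right (dvd_pow_self _ two_ne_zero)).1
      ((Nat.dvd_add h5 (Dvd.intro_left 4 rfl)).trans (dvd_of_eq (by ring)))
    obtain rfl : k = 0 := by have := Nat.le_of_dvd four_pos h7; omega
    exact absurd h7 (by decide)
  · exact h7 (cop3 e (by omega) (h1 ▸ h6))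

end St

end Cfsg.Lib.HR
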