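import Cfsg.Agent.Lib.HR.P4
import Cfsg.Agent.Lib.TT.OddB
import Cfsg.Agent.Lib.QD.Types1

/-!
The non-split case with a Sylow four-group.
-/

set_option autoImplicit false

namespace Cfsg.Lib.HR

open MulAction Subgroup Cfsg.Lib.Perm Cfsg.Lib.BG Cfsg.Lib.BG.A10 Cfsg.Lib.GW Cfsg.Lib.Small
open Cfsg.Lib.TT Cfsg.Lib.PSL2
open Cfsg.Lib.Inv hiding conj_mem_of_mem_normalizer orderOf_eq_of_isConj
open scoped Cfsg.Lib.Transfer

universe u
variable {G : Type u} {Ω : Type*} [Group G] [MulAction G Ω] {a b c d : Ω} {t u s g x y z v w : G}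
  {T K L E : Subgroup G} {n : ℕ} [Finite G]

theorem model_sqrt {F : Type*} [Field F] [Finite F] {τ : G →* (F ≃+* F)}
    {f : τ.ker →* Matrix.ProjGenLinGroup (Fin 2) F} (hm : Model E τ f) (hq : Odd (Nat.card F))
    (ht : orderOf t = 2) (y' : y ∈ τ.ker) (z' : z ∈ τ.ker) (e1 : y * y = t) (e2 : z * z = t) :
    z = y ∨ z = y⁻¹ := by
  obtain ⟨a, b, m, hT, h1, h2⟩ := hm.exists_torus hq ht
  have t' := hm.inv t (mul_self_of_orderOf ht)
  have t2 : orderOf (bar f t) = 2 := (hm.ord t').trans ht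
  have key : ∀ y ∈ τ.ker, y * y = t → bar f y ∈ torus F a b := fun y y' e => by
    refine mem_fix2_of_mul_self_ne hT.ne (show bar f y ∈ dih F a b from h2 ▸ bar_cent y' t'
      (mem_cent1.2 (by rw [← e, mul_assoc]))) fun e' => ne_one_of_orderOf t2
      (toK_injective (K := AlgebraicClosure F) ?_)
    rw [← e, bar_mul y' y', map_mul, e', map_one]
  have hc : y * z = z * y := hm.eq_of (mul_mem y' z') (mul_mem z' y') (by
    rw [bar_mul y' z', bar_mul z' y', commute_of_mem_torus hT.ne (key y y' e1) (key z z' e2)])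
  have h3 : y * z * (y * z) = 1 := by
    rw [mul_assoc, ← mul_assoc z, ← hc, mul_assoc, e2, ← mul_assoc, e1, mul_self_of_orderOf ht]
  by_cases h4 : y * z = 1
  · exact .inr (eq_inv_of_mul_eq_one_right h4)
  have h5 := mul_mem y' z'
  have o : orderOf (bar f (y * z)) = 2 := (hm.ord h5).trans (orderOf_eq_two_iff.2 ⟨h4, h3⟩)
  refine .inl (mul_left_cancel (a := y) (e1 ▸ hm.eq_of h5 t' (eq_of_mul_self_of_mem_torus hT.ne
    ?_ h1 (ne_one_of_orderOf o) (ne_one_of_orderOf t2) (mul_self_of_orderOf o)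
    (mul_self_of_orderOf t2))))
  rw [bar_mul y' z']
  exact mul_mem (key y y' e1) (key z z' e2)

omit [Finite G] in
theorem mul_swap (h1 : s ∈ 𝐍(L)) : s * x ∈ L ↔ x * s ∈ L :=
  ⟨fun e => by simpa [mul_assoc] using conj_mem_of_norm' h1 e,
    fun e => by simpa [mul_assoc] using conj_mem_of_norm h1 e⟩

theorem syl_zp (hT : Syl 2 T L) (hs : orderOf s = 2) (h1 : s ∈ 𝐍(L)) (h2 : s ∈ 𝐍(T)) :
    Syl 2 (T ⊔ zpowers s) (L ⊔ zpowers s) := by
  obtain ⟨P, hP, hle⟩ := exists_syl_ge (pgroup_sup hT.pgroup (zp_two hs) (zp_norm.2 h2))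
    (sup_le_sup_right hT.le _)
  have e := syl_eq_of_le hT (pgroup_of_le hP.pgroup inf_le_left) inf_le_right
    (le_inf (le_sup_left.trans hle) hT.le)
  have ss := mul_self_of_orderOf hs
  rwa [le_antisymm hle fun x hx => (W2.mem_sup_zp ss h2).2 (((W2.mem_sup_zp ss h1).1
    (hP.le hx)).imp (fun e' => e.ge ⟨hx, e'⟩) fun e' => e.ge
      ⟨mul_mem hx (hle (mem_sup_right (mem_zpowers s))), e'⟩)]

theorem conj_into (hT : Syl 2 T L) (hs : orderOf s = 2) (h1 : s ∈ 𝐍(L)) (h2 : s ∈ 𝐍(T))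
    (hx : IsPGroup 2 (zpowers x)) (hm : s * x ∈ L) (hn : x ∉ L) :
    ∃ d ∈ L, s * (d * x * d⁻¹) ∈ T := by
  have ss := mul_self_of_orderOf hs
  obtain ⟨m, h3, h4⟩ := syl_conj_le (syl_zp hT hs h1 h2) hx
    (zpowers_le.2 ((W2.mem_sup_zp ss h1).2 (.inr ((mul_swap h1).1 hm))))
  replace h4 : m * x * m⁻¹ ∈ _ := h4 (mem_map_of_mem _ (mem_zpowers x))
  obtain ⟨d, hd, h5⟩ : ∃ d ∈ L, d * x * d⁻¹ ∈ T ⊔ zpowers s := by
    rcases (W2.mem_sup_zp ss h1).1 h3 with e | e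
    · exact ⟨m, e, h4⟩
    have hs := mem_sup_right (S := T) (mem_zpowers s)
    exact ⟨_, (mul_swap h1).2 e, by
      simpa [mul_assoc] using mul_mem (mul_mem hs h4) (inv_mem hs)⟩
  exact ⟨d, hd, (mul_swap h2).2 (((W2.mem_sup_zp ss h2).1 h5).resolve_left fun e => hn (by
    simpa [mul_assoc] using mul_mem (mul_mem (inv_mem hd) (hT.le e)) hd))⟩

variable (a b) in
/-- No element interchanging `a` and `b` centralizes the two point stabilizer. -/
def NS : Prop := ∀ z : G, z • a = b → z • b = a → ¬ stab2 G a b ≤ 𝐂[z]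

namespace St
variable (h : St a b T t s) (hB : NS (G := G) a b)
include h hB

theorem not_cent : s ∉ 𝐂(T) := fun e => by
  obtain ⟨n, hn, e⟩ := h.sa.inner h.syl h.sN h.ss e
  exact hB _ (by rw [mul_smul, h.sab, (inv_mem hn).2]) (by rw [mul_smul, h.sb, (inv_mem hn).1])
    (le_cent1_iff.2 e)

theorem not_rt (hR : ∀ v ∈ T, v ≠ 1 → RT (stab2 G a b) T v) : False := by
  obtain ⟨w, hw, e⟩ : ∃ w ∈ T, w * s ≠ s * w := by
    by_contra! e
    exact h.not_cent hB (mem_cent.2 e)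
  have h1 := conj_mem_of_norm h.sT hw
  have h2 := mul_mem hw h1
  have h3 := hR _ h2 fun e' => e (mul_inv_eq_iff_eq_mul.1 ((eq_inv_of_mul_eq_one_right e').trans
    (inv_eq_of_mul_self (h.sq hw)))).symm
  have h4 : s ∈ 𝐂[w * (s * w * s⁻¹)] := cent1_iff.2 (by
    rw [cj_mul, mem_cent.1 (h.comm h1) w hw, inv_eq_of_mul_self h.ss, ← mul_assoc s, ← mul_assoc s,
      h.ss, one_mul, mul_assoc w, h.ss, mul_one])
  have h5 : s ∈ 𝐍(⁅stab2 G a b ⊓ 𝐂[w * (s * w * s⁻¹)], stab2 G a b ⊓ 𝐂[w * (s * w * s⁻¹)]⁆) :=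
    zpowers_le.1 (norm_der (norm_inf (zpowers_le.2 h.sN) (norm_cent1 (zpowers_le.2 h4))))
  rcases h3.cases w ⟨h.le hw, cent_le_cent1 h2 (h.comm hw)⟩ with e | e
  · exact h3.nmem (mul_mem e (conj_mem_of_norm h5 e))
  have h6 := mul_mem e (conj_mem_of_norm h5 e)
  rw [cj_mul, cent1_iff.1 h4] at h6
  generalize s * w * s⁻¹ = w' at *
  have c := mem_cent.1 (h.comm h1) w hw
  rw [mul_assoc w w' w, ← c, ← mul_assoc w w, h.sq hw, one_mul, mul_assoc w, h.sq h1, mul_one,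
    ← c] at h6
  exact h3.nmem h6

end St

namespace S4
variable (h : S4 a b t u s n) (hB : NS (G := G) a b)
include h hB

local notation "𝐃" => stab2 G a b
local notation "𝐓" => FourGen.four (PT.four (S4.pt h))
local notation "Δ" => fixedBy Ω t
local notation "Γ" => FX Ω (FourGen.four (PT.four (S4.pt h)))
local notation "𝐘" => 𝐂[t] ⊓ 𝐍(FourGen.four (PT.four (S4.pt h)))

theorem su : s * u * s⁻¹ = t * u := by
  have f := h.four
  have h1 := conj_mem_II h.st.st (II_of_four f)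
  rcases f.mem_four.1 (conj_mem_of_norm h.st.sT f.right_mem) with e | e | e | e
  exacts [absurd e (ne_one_of_orderOf h1.2.1), absurd e h1.2.2, absurd ((mem_cent_four f).2
    ⟨h.st.st, cent1_iff.2 e⟩) (h.st.not_cent hB), e]

theorem su_sq : s * u * (s * u) = t := by
  have := h.su hB
  rw [inv_eq_of_mul_self h.st.ss] at this
  rw [← mul_assoc, this, h.four.mul_mul_right']

theorem conj_s (hL : L ≤ 𝐃) (hT : 𝐓 ≤ L) (hs : s ∈ 𝐍(L)) (h1 : s * x ∈ L) (h2 : x * x = 1)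
    (h3 : x • a = b) : ∃ d ∈ L, d * s * d⁻¹ = x := by
  have f := h.four
  have o : orderOf x = 2 := orderOf_eq_two_iff.2 ⟨fun e => h.st.ne (by rw [← h3, e, one_smul]), h2⟩
  obtain ⟨d, hd, e⟩ := conj_into (h.st.syl.of_le hT hL) h.st.s2 hs h.st.sT (zp_two o) h1
    fun e => h.st.ne ((hL e).1.symm.trans h3)
  have h4 := mul_self_of_orderOf (ord_conj o d)
  have h5 : ∀ v, s * (d * x * d⁻¹) = v → d * x * d⁻¹ = s * v := fun v e => by
    rw [← e, ← mul_assoc, h.st.ss, one_mul]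
  have h6 : x = d⁻¹ * (d * x * d⁻¹) * d⁻¹⁻¹ := by group
  rcases f.mem_four.1 e with e | e | e | e <;> rw [h5 _ e] at h4 h6
  · exact ⟨_, inv_mem hd, by rw [h6, mul_one]⟩
  · refine ⟨_, mul_mem (inv_mem hd) (hT f.right_mem), ?_⟩
    have : s * t = u * s * u⁻¹ := by
      rw [f.inv_eq', ← h.su_sq hB, ← mul_assoc, ← mul_assoc s s, h.st.ss, one_mul, mul_assoc]
    rw [h6, this]; group
  · exact absurd ((h.su_sq hB).symm.trans h4) f.ne_one
  · rw [← mul_assoc s t, mem_cent1.1 h.st.st, mul_assoc t s, mul_assoc, ← mul_assoc _ t,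
      mem_cent1.1 (mul_mem h.st.st (h.st.leX f.right_mem)), mul_assoc, h.su_sq hB, f.sq,
      mul_one] at h4
    exact absurd h4 f.ne_one

theorem conjB (hx : orderOf x = 2) : IsConj s x := by
  obtain ⟨y, h1, h2⟩ := h.st.exists_swap (ne_one_of_orderOf hx)
  have h3 := mul_self_of_orderOf (orderOf_eq_of_isConj h1 ▸ hx)
  obtain ⟨d, -, e⟩ := h.conj_s hB le_rfl h.st.le h.st.sN (h.st.swap' h2 (h3 ▸ one_mem _)) h3 h2
  exact (isConj_iff.2 ⟨d, e⟩).trans h1.symm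

theorem oneC : OneC G := fun _ _ h1 h2 => (h.conjB hB h1).symm.trans (h.conjB hB h2)

theorem dcK : DC ↥(𝐃 ⊔ zpowers s) := by
  have f := h.four
  have h1 := h.su_sq hB
  refine QD.Ty.dc_of_syl (syl_zp h.st.syl h.st.s2 h.st.sN h.st.sT) (a := s * u) (b := s) (m := 1)
    ⟨orderOf_eq_four_iff.2 ⟨h1.trans_ne f.ne_one, ?_⟩, fun e => f.ne_one ?_, le_antisymm
      (sup_le (zpowers_le.2 (mul_mem (mem_sup_right (mem_zpowers s)) (mem_sup_left f.right_mem)))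
        le_sup_right) (sup_le (f.four_le_iff.2 ⟨?_, ?_⟩) le_sup_right), ?_, by simpa using h.st.ss,
      by simp⟩
  · rw [show 4 = 2 * 2 from rfl, pow_mul, pow_two, pow_two, h1, f.sq]
  · have h2 := mul_left_cancel ((mul_assoc ..).symm.trans (mem_cent1.1 (cent_le_cent1 e
      (abelian_cent (abelian_of_cyclic inferInstance) (mem_zpowers _)))))
    simpa using (mul_inv_eq_iff_eq_mul.2 h2.symm).symm.trans (h.su hB)
  · exact h1 ▸ mem_sup_left (mul_mem (mem_zpowers _) (mem_zpowers _))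
  · simpa [← mul_assoc, h.st.ss] using mul_mem (mem_sup_right (S := zpowers (s * u))
      (mem_zpowers s)) (mem_sup_left (mem_zpowers _))
  · simp [inv_eq_of_mul_self h.st.ss, f.inv_eq', ← mul_assoc, h.st.ss]

theorem pgl : (∀ y, s * y ∈ 𝐃 → y * y = t → y = s * u ∨ y = (s * u)⁻¹) ∧
    ∃ g ∈ 𝐃 ⊓ 𝐂[s], orderOf g = 2 * n + 1 ∨ 2 * n = orderOf g + 1 := by
  have f := h.four
  have hX := h.dcK hB
  set K := 𝐃 ⊔ zpowers s
  have hle : 𝐃 ≤ K := le_sup_left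
  have hs : s ∈ K := mem_sup_right (mem_zpowers s)
  obtain ⟨F, _, _, hq, ⟨e⟩⟩ := h.st.sa.psl h.st.syl f.card_four
  have hE : Soc ((𝐃).subgroupOf K) F := ⟨hq, (normal_subgroupOf_iff_le_normalizer hle).2
    (sup_le (le_norm _) (zpowers_le.2 h.st.sN)), ⟨(subgroupOfEquivOfLe hle).trans e⟩,
    eq_bot_iff.2 fun x hx => by
      have h1 : 𝐃 ≤ 𝐂[(x : G)] := fun y hy => mem_cent1.2
        (congrArg Subtype.val (mem_cent.1 hx ⟨y, hle hy⟩ hy))
      rcases (W2.mem_sup_zp h.st.ss h.st.sN).1 x.2 with e | e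
      · exact Subtype.ext (h.st.sa.eq_one e h1)
      · exact absurd h1 (hB _ (by rw [← h.st.sb, ← mul_smul, e.2])
          (by rw [← h.st.sab, ← mul_smul, e.1]))⟩
  have := hE.nml
  obtain ⟨τ, φ, hm⟩ := hE.model hX
  obtain ⟨κ, κ', hL⟩ := hm.l2b hq hE.iso.some (hE.three_lt hX fun e => h.st.sa.nsol
    (sol_of_le (M := K) e hle)) hE.cent
  have k : ∀ y (hy : s * y ∈ 𝐃), ∃ hy' : y ∈ K, (⟨y, hy'⟩ : K) ∈ τ.ker := fun y hy =>
    ⟨by simpa [← mul_assoc, h.st.ss] using mul_mem hs (hle hy), by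
      convert mul_mem (hm.inv ⟨s, hs⟩ (Subtype.ext h.st.ss)) (hm.ker (g := ⟨_, hle hy⟩) hy)
      simp [← mul_assoc, h.st.ss]⟩
  have t2 : orderOf (⟨t, hle h.st.tD⟩ : K) = 2 := by rw [orderOf_mk, h.st.t2]
  refine ⟨fun y hy e => ?_, ?_⟩
  · obtain ⟨_, h1⟩ := k y hy
    obtain ⟨_, h2⟩ := k (s * u) (by simpa [← mul_assoc, h.st.ss] using h.st.le f.right_mem)
    exact (model_sqrt hm hq t2 h2 h1 (Subtype.ext (h.su_sq hB)) (Subtype.ext e)).imp
      (congrArg Subtype.val) (congrArg Subtype.val)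
  obtain ⟨g, h1, h2, -, -, -, h3⟩ := hL.tor ⟨s, hs⟩ (by rw [orderOf_mk, h.st.s2])
  refine ⟨g, ⟨h1, mem_cent1.2 (congrArg Subtype.val (mem_cent1.1 h2))⟩, ?_⟩
  rw [orderOf_coe, h3 h.st.sD, ← h.pt.inv, show {x | x ∈ 𝐃 ∧ x ∈ II t}.ncard = κ from ?_]
  · exact hL.sgn
  rw [← hL.cardC _ h.st.tD t2, ← Set.ncard_image_of_injective _ Subtype.val_injective]
  congr 1
  refine Set.ext fun x => ⟨fun ⟨h1, h2, h3, h4⟩ => ⟨⟨x, hle h1⟩, ⟨h1, mem_cent1.2 (Subtype.ext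
    (mem_cent1.1 h2)), by rwa [orderOf_mk], fun e => h4 (congrArg Subtype.val e)⟩, rfl⟩, ?_⟩
  rintro ⟨x, ⟨h1, h2, h3, h4⟩, rfl⟩
  exact ⟨h1, mem_cent1.2 (congrArg Subtype.val (mem_cent1.1 h2)), (orderOf_coe x).trans h3,
    fun e => h4 (Subtype.ext e)⟩

theorem memB (k : ℕ) : ∀ y ∈ 𝐂(𝐓), y ^ 2 ^ k = 1 → y ∈ 𝐓 := by
  induction k with
  | zero => exact fun y _ e => by rw [show y = 1 by simpa using e]; exact one_mem _
  | succ k ih =>
    refine fun y hy e => by_contra fun h1 => ?_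
    obtain ⟨g, hg, h2⟩ := h.swapY ⟨cent_le_cent1 h.four.left_mem hy, cent_le_norm _ hy⟩ h1
      (ih _ (mul_mem hy hy) (by rw [← sq, ← pow_mul, ← pow_succ', e]))
    exact h.st.not_cent hB ((mul_mem_cancel_right (conj_mem_of_norm (norm_cent le_rfl hg.2) hy)).1
      (h.st.comm h2))

theorem memB' {P : Subgroup G} (hP : IsPGroup 2 P) (hle : P ≤ 𝐂[t]) (hy : y ∈ P) (e : y ∈ 𝐂[u]) :
    y ∈ 𝐓 := (hP ⟨y, hy⟩).elim fun k e' =>
  h.memB hB k y ((mem_cent_four h.four).2 ⟨hle hy, e⟩) (congrArg Subtype.val e')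

variable [Finite Ω]

theorem evenB (he : Even (Nat.card Ω)) : n = 1 := by
  have f := h.four
  have r1 := h.ratio
  have n0 := h.pt.odd.pos
  rw [h.eq_two he fun e => by
    obtain ⟨P, hP⟩ := exists_syl (p := 2) 𝐘
    rw [← card_mul_relIndex hP.le] at e
    have h1 := Nat.le_of_dvd Nat.card_pos (Nat.Coprime.dvd_of_dvd_mul_right (Nat.Coprime.pow_left 4
      ((Nat.Prime.coprime_iff_not_dvd Nat.prime_two).2 hP.not_dvd')) e)
    have h2 := Nat.mul_le_mul ((Set.ncard_le_ncard (s := {x | ∃ c ∈ P, c * u * c⁻¹ = x})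
      (t := {u, t * u}) (by
        rintro _ ⟨c, hc, rfl⟩
        have h1 := conj_mem_II (hP.le hc).1 (II_of_four f)
        rcases f.mem_four.1 (conj_mem_of_norm (hP.le hc).2 f.right_mem) with e | e | e
        exacts [absurd e (ne_one_of_orderOf h1.2.1), absurd e h1.2.2, e])).trans
      (Set.ncard_insert_le ..)) (card_le_of_le (H := P ⊓ 𝐂[u]) fun y hy =>
        h.memB' hB hP.pgroup (hP.le.trans inf_le_left) hy.1 hy.2)
    rw [ncard_conj_mul, Set.ncard_singleton, f.card_four] at h2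
    omega] at r1
  have c1 := ncard_conj_mul (𝐃 ⊓ 𝐂[t]) s
  have c2 := Nat.mul_le_mul (Set.ncard_le_ncard (s := {x | x ∈ UU t u ∧ x • a = b})
    (t := {x | ∃ c ∈ 𝐃 ⊓ 𝐂[t], c * s * c⁻¹ = x}) fun x hx => by
      have h1 := UU.ii f hx.1
      have h2 := mul_self_of_orderOf h1.2.1
      exact h.conj_s hB inf_le_left h.pt.le (zpowers_le.1 (norm_inf (zpowers_le.2 h.st.sN)
        (norm_cent1 (zpowers_le.2 h.st.st)))) ⟨h.st.swap' hx.2 (h2 ▸ one_mem _),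
          mul_mem h.st.st h1.1⟩ h2 hx.2) (card_le_of_le (H := zpowers t) (K := 𝐃 ⊓ 𝐂[t] ⊓ 𝐂[s])
    (zpowers_le.2 ⟨⟨h.st.tD, self_mem_cent1 t⟩, mem_cent1_symm h.st.st⟩))
  rw [c1, h.pt.cC, Nat.card_zpowers, h.st.t2] at c2
  have c3 : (Δ).ncard - 2 ≤ 2 := Nat.le_of_mul_le_mul_right (c := 2 * n) (by omega) (by omega)
  have c4 := h.st.gam
  have c5 := h.st.ncard_inv
  have c6 := ncard_conj_mul 𝐃 s
  rw [show {x | ∃ c ∈ 𝐃, c * s * c⁻¹ = x} = {x | IsConj t x ∧ x • a = b} from Set.ext fun x =>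
    ⟨fun ⟨c, hc, e⟩ => e ▸ ⟨(h.conjB hB h.st.t2).symm.trans (isConj_iff.2 ⟨c, rfl⟩), by
      rw [mul_smul, (inv_mem hc).1, mul_smul, h.st.sab, hc.2]⟩, fun e =>
      have h2 := h.st.sq_of_conj e.1
      h.conj_s hB le_rfl h.st.le h.st.sN (h.st.swap' e.2 (h2 ▸ one_mem _)) h2 e.2⟩, ← c5,
    h.pt.cC] at c6
  have c7 : {x | x ∈ 𝐃 ∧ orderOf x = 2}.ncard ≠ 0 := fun e => by
    rw [e, zero_mul] at c5; exact Nat.card_pos.ne c5
  have c8 : 2 * n * (2 * (((Δ).ncard - 1) * (Δ).ncard)) =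
      Nat.card ↥(𝐃 ⊓ 𝐂[s]) * (Nat.card Ω - (Δ).ncard) :=
    Nat.eq_of_mul_eq_mul_left (Nat.pos_of_ne_zero c7) (by
      rw [mul_left_comm _ (Nat.card _), ← c4, ← mul_assoc (Nat.card _), mul_comm (Nat.card _), c6]
      ring)
  obtain ⟨g, hg, e⟩ := (h.pgl hB).2
  have c9 : orderOf g ∣ 24 := (Nat.Coprime.dvd_of_dvd_mul_left (by
    rcases e with e | e <;> rw [e] <;> simp)
    (c8 ▸ (Subgroup.orderOf_dvd_natCard _ hg).mul_right _)).trans (by
      have h1 := h.st.par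
      have h2 := h.st.two_le_f
      rw [Nat.even_iff.1 he] at h1
      rcases (show (Δ).ncard = 2 ∨ (Δ).ncard = 4 by omega) with e | e <;> rw [e] <;> decide)
  obtain ⟨j, hj⟩ := h.pt.odd
  have := Nat.le_of_dvd (by decide) c9
  generalize orderOf g = k at *
  interval_cases k <;> omega

theorem roots (ho : Odd (Nat.card Ω)) (hc : c ∈ Δ) :
    {y | y ∈ {y | y ∈ 𝐂[t] ∧ y * y = t} ∧ y • c = c}.ncard ≤ 2 := by
  have f := h.four
  rw [h.st.twoX.one_eq h.st.tD.1 h.st.tD.2 h.st.ne hc (U := {y | y ∈ 𝐂[t] ∧ y * y = t})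
    ⟨fun _ hx => hx.1, fun g hg x hx =>
    ⟨mul_mem (mul_mem hg hx.1) (inv_mem hg), by rw [← cj_mul, hx.2, cent1_iff.1 hg]⟩, fun x hx => ?_⟩]
  · refine (Set.ncard_le_ncard (t := {s * u, (s * u)⁻¹}) fun x hx => ?_).trans
      (Set.ncard_insert_le .. |>.trans_eq (by rw [Set.ncard_singleton]))
    exact (h.pgl hB).1 x (h.st.swap' hx.2 (hx.1.2.symm ▸ h.st.tD)) hx.1.2
  have h4 : x ^ 2 ^ 2 = 1 := by rw [← f.sq, ← hx.2]; simp [pow_succ, mul_assoc]
  obtain ⟨c, h1, h2⟩ := exists_fix_of_pow (B := Δ) h4 (fun _ => smul_fix hx.1) (by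
    have := h.st.par
    rw [Nat.odd_iff.1 ho] at this
    omega)
  exact fx_one h1 h2 fun c hc d hd h1 h2 => by_contra fun e => f.ne_one (hx.2.symm.trans
    ((h.st.sa' e).sq (isPGroup_zpowers h4) (zpowers_le.2 ⟨h1, h2⟩) (mem_zpowers x)))

theorem dcB (ho : Odd (Nat.card Ω)) : DC G := by
  have f := h.four
  obtain ⟨P, hP, hle⟩ := exists_syl_ge (pgroup_sup (four_pgroup f) (zp_two h.st.s2)
    (zp_norm.2 h.st.sT)) (sup_le h.st.leX (zpowers_le.2 h.st.st))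
  obtain ⟨S, rfl⟩ := syl_top_iff_sylow.1 (syl_of_one (h.oneC hB) h.st.t2 hP)
  have hT := le_sup_left.trans hle
  have hs := hle (mem_sup_right (mem_zpowers s))
  have hu := hT f.right_mem
  have k1 := fun y => h.memB' hB (y := y) S.2 hP.le
  obtain ⟨x, y, m, hm, h1⟩ := mc_of_cent S.2 (u := ⟨u, hu⟩) (by
    rw [show 𝐂[(⟨u, hu⟩ : (S : Subgroup G))] = f.four.subgroupOf S from Subgroup.ext fun y =>
      ⟨fun e => k1 _ y.2 (mem_cent1.2 (congrArg Subtype.val (mem_cent1.1 e))), fun e => mem_cent1.2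
        (Subtype.ext (mem_cent1.1 (cent_le_cent1 f.right_mem (abelian_cent (four_abelian f) e))))⟩,
      Nat.card_congr (subgroupOfEquivOfLe hT).toEquiv, f.card_four]) (ne_bot_of_mem
      (commutator_mem_commutator (mem_top (⟨s, hs⟩ : (S : Subgroup G))) (mem_top ⟨u, hu⟩))
      fun e => f.ne_one (by simpa [commutatorElement_def, h.su hB] using congrArg Subtype.val e))
  rcases h1 with h1 | h1 | ⟨hm, h1⟩ <;> replace h1 := h1.of_top
  · exact DC.of_mc h1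
  · exact absurd f.isKleinFour (h1.quat_not_k4 hT)
  obtain ⟨m, rfl⟩ := Nat.exists_eq_add_of_le' hm
  have h2 : (x : G) ^ (2 : ℤ) ^ (m + 2) = t := by
    have h2 := cent1_iff.2 (mul_inv_eq_iff_eq_mul.2 (h1.z_comm hs)) |> cent1_iff.1
    rcases f.mem_four.1 (k1 _ (h1.zpow_mem _) (mem_cent1.2 (h1.z_comm hu).symm)) with e | e | e | e
    · exact absurd e h1.z_ne_one
    · exact e
    · exact absurd (by simpa [e, h.su hB] using h2) f.ne_one
    · exact absurd (by simpa [e, cj_mul, h.su hB, cent1_iff.1 h.st.st] using h2) f.ne_one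
  obtain ⟨c, hc, hPc⟩ := exists_fixed_of_not_dvd S.2 (s := Δ) (fun x hx _ => smul_fix (hP.le hx)) (by
    have := h.st.par
    rw [Nat.odd_iff.1 ho] at this
    omega)
  have k2 : ∀ z ∈ (S : Subgroup G), z * z = t → z ∈ {y | y ∈ {y | y ∈ 𝐂[t] ∧ y * y = t} ∧ y • c = c} :=
    fun z hz e => ⟨⟨hP.le hz, e⟩, hPc z hz⟩
  have h3 : (x : G) ^ (2 : ℤ) ^ (m + 1) * (x : G) ^ (2 : ℤ) ^ (m + 1) = t := by
    rw [← zpow_add, ← h2]; congr 1; ring
  exact absurd (h.roots hB ho hc) (not_le.2 ((Set.two_lt_ncard (Set.toFinite _)).2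
    ⟨_, k2 _ (h1.zpow_mem _) h3, _, k2 _ (h1.zpow_mem (-2 ^ (m + 1))) (by
      rw [zpow_neg, ← mul_inv_rev, h3, f.inv_eq]), _, k2 _ (h1.refl_mem 1) (by
      rw [h1.refl_sq, ← h2]; simp), fun e => f.ne_one (by
      rw [← h3]; nth_rw 1 [e]; rw [zpow_neg, inv_mul_cancel]), (h1.refl_ne _ _).symm,
      (h1.refl_ne _ _).symm⟩))

theorem oddB (ho : Odd (Nat.card Ω)) : Nonempty (G ≃* alternatingGroup (Fin 7)) := by
  have h1 := h.oneC hB
  refine (cf_cases (h.dcB hB ho) h.st.core fun e => h.st.sa.nab (h.st.sa.comm (e.to_subgroup _)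
    le_rfl)).resolve_right fun ⟨F, _, _, E, hE⟩ => ?_
  obtain ⟨c, hc, h2⟩ : ∃ c ∈ Δ, c ∉ ({a, b} : Set Ω) := Set.not_subset.1 fun e => by
    have h2 := Set.ncard_le_ncard e
    have h3 := h.st.two_le_f
    have h4 := h.st.par
    rw [Set.ncard_pair h.st.ne] at h2
    rw [Nat.odd_iff.1 ho] at h4
    omega
  obtain ⟨x, hx, e1, e2⟩ := h.st.twoX.two a h.st.tD.1 b h.st.tD.2 a h.st.tD.1 c hc h.st.ne
    fun e => h2 (.inl e.symm)
  have h3 := mul_mem (soc_mem hE h1 h.st.s2) (soc_mem hE h1 h.four.orderOf_eq')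
  have h5 := h.st.le h.four.right_mem
  have h4 : (x * (s * u) * x⁻¹) • a = c := by rw [← e1, cj_smul, h.st.s_mul h5, e2]
  rcases soc_sqrt hE (h.dcB hB ho) h.st.t2 h3 (hE.nml.conj_mem _ h3 x) (h.su_sq hB)
    (by rw [← cj_mul, h.su_sq hB, cent1_iff.1 hx]) with e | e <;> rw [e] at h4
  · exact h2 (.inr (h4.symm.trans (h.st.s_mul h5)))
  · refine h2 (.inr (MulAction.injective (s * u) ?_))
    dsimp only
    rw [← inv_smul_eq_iff.1 h4, mul_smul, h5.2, h.st.sb]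

end S4

end Cfsg.Lib.HR
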