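import Cfsg.Agent.Lib.HR.Wc
import Cfsg.Agent.Lib.HR.Hs

/-!
The non-split case with two point stabilizer `L₂(2ⁿ)`.
-/

set_option autoImplicit false

namespace Cfsg.Lib.HR.St

open MulAction Subgroup Cfsg.Lib.Perm Cfsg.Lib.BG Cfsg.Lib.BG.A10 Cfsg.Lib.GW Cfsg.Lib.Small
open Cfsg.Lib.TT
open Cfsg.Lib.Inv hiding conj_mem_of_mem_normalizer orderOf_eq_of_isConj
open scoped Cfsg.Lib.Transfer

universe u
variable {G : Type u} {Ω : Type*} [Group G] [MulAction G Ω] {a b c d : Ω} {t s g x y : G}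
  {T P : Subgroup G} [Finite G] (h : St a b T t s) (hB : NS (G := G) a b) (hE : ET (stab2 G a b) T)

local notation "𝐃" => stab2 G a b
local notation "Γ" => FX Ω T
local notation "𝐘" => 𝐂[t] ⊓ 𝐍(T)
local notation "𝐙" => T ⊓ 𝐂[s]

include h hE

omit [Finite G] in
theorem hYE : 𝐃 ⊓ 𝐘 ≤ T := fun _ hx => (hE.cent t h.tT h.t1).le ⟨hx.1, hx.2.1⟩

theorem invO [Finite Ω] (ho : Odd (Nat.card Ω)) (hP : IsPGroup 2 P) (h1 : P ≤ 𝐘) (hs : s ∈ P)
    (hx : x ∈ P) (h2 : x * x = 1) : x ∈ T ∨ s * x ∈ T := by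
  have hΓ : ¬ 2 ∣ (Γ).ncard := by
    have := h.parT
    rw [Nat.odd_iff.1 ho] at this
    omega
  obtain ⟨c, hc, hPc⟩ := exists_fixed_of_not_dvd hP (fun x hx => h.twoY.mem x (h1 hx)) hΓ
  have k := Set.eq_of_subset_of_ncard_le (s := (s * ·) '' T)
    (t := {x | x ∈ {x | x ∈ 𝐘 ∧ x ∉ T ∧ x * x ∈ T} ∧ x • c = c}) (by
      rintro _ ⟨v, hv, rfl⟩
      exact ⟨⟨mul_mem (h1 hs) (h.leY hv), fun e => h.sD (h.le ((mul_mem_cancel_right hv).1 e)), by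
        simpa [mul_assoc, inv_eq_of_mul_self h.ss] using mul_mem (conj_mem_of_norm h.sT hv) hv⟩,
        by rw [mul_smul, hc hv, hPc s hs]⟩) (by
      rw [h.twoY.one_eq h.aΓ h.bΓ h.ne hc, Set.ncard_image_of_injective _ (mul_right_injective s)]
      · exact Set.ncard_le_ncard_of_injOn (s * ·) (fun x hx => h.hYE hE (mem_inf.2 ⟨h.swap' hx.2
          (h.le hx.1.2.2), mul_mem (h1 hs) hx.1.1⟩)) fun _ _ _ _ => mul_left_cancel
      refine ⟨fun _ hx => hx.1, fun g hg x hx => ⟨mul_mem (mul_mem hg hx.1) (inv_mem hg),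
        fun e => hx.2.1 (by simpa [mul_assoc] using conj_mem_of_norm' hg.2 e),
        cj_mul g x x ▸ conj_mem_of_norm hg.2 hx.2.2⟩, fun x hx => ?_⟩
      obtain ⟨c, h3, h4⟩ := exists_fix_of_pow (p := 2) (k := 2) (g := x) (B := Γ) (by
        rw [← h.sq hx.2.2]; simp [pow_succ, mul_assoc]) (h.twoY.mem x hx.1) hΓ
      exact fx_one h3 h4 fun c hc d hd h3 h4 =>
        by_contra fun e => hx.2.1 (h.sharp (h.hYE hE) hx.1 hc hd e h3 h4))
  refine or_iff_not_imp_left.2 fun e => ?_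
  obtain ⟨v, hv, rfl⟩ := k.ge ⟨⟨h1 hx, e, h2 ▸ one_mem _⟩, hPc x hx⟩
  rwa [← mul_assoc, h.ss, one_mul]

include hB

theorem orbE : (∀ v ∈ 𝐙, ∃ w ∈ T, w * s * w⁻¹ = s * v) ∧ Nat.card ↥𝐙 ^ 2 = Nat.card T := by
  obtain ⟨y, hy⟩ := h.sa.kn.sing T h.syl
  have h1 : y ⋆ 𝐙 ≤ T := conj_le_of_norm inf_le_left hy.norm
  have h2 : y ⋆ 𝐙 ≤ 𝐂[y * s * y⁻¹] := conj_cent1 y s ▸ map_mono inf_le_right
  have h3 := Core.card_sup_of_disjoint (H := 𝐙) (N := y ⋆ 𝐙) (inf_le_left.trans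
    (h.comm.trans ((cent_anti h1).trans (cent_le_norm _)))) (eq_bot_iff.2 fun v hv =>
      by_contra fun v1 => h.not_cent hB (mem_cent.2 fun w hw => ?_))
  swap
  · have h4 := (hE.cent v hv.1.1 v1).le (mem_inf.2 ⟨h.swap (x := y * s * y⁻¹)
      (by rw [mul_smul, (inv_mem hy.mem).1, mul_smul, h.sab, hy.mem.2])
      (by rw [mul_smul, (inv_mem hy.mem).2, mul_smul, h.sb, hy.mem.1]),
      mul_mem (mem_cent1_symm hv.1.2) (mem_cent1_symm (h2 hv.2))⟩)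
    rcases eq_or_ne w 1 with rfl | w1
    · simp
    obtain ⟨g, hg, rfl⟩ := hy.trans t h.tT h.t1 w hw w1
    exact mem_cent1.1 (conj_mem_of_norm (zpowers_le.2 (Transfer.mem_normalizer_of_conj_le
      fun x hx => mem_inf.2 ⟨h1 hx, mem_cent1_symm ((mul_mem_cancel_right (mem_cent1_symm (h2 hx))).1
        (cent_le_cent1 (h1 hx) (h.comm h4)))⟩) hg) (mem_inf.2 ⟨h.tT, mem_cent1_symm h.st⟩)).2
  have h4 := card_le_of_le (sup_le (inf_le_left (b := 𝐂[s])) h1)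
  rw [h3, Transfer.card_conj] at h4
  have h5 := ncard_conj_mul T s
  have h6 : {x | ∃ c ∈ T, c * s * c⁻¹ = x} ⊆ (s * ·) '' ↑𝐙 := by
    rintro _ ⟨w, hw, rfl⟩
    have := mem_cent.1 (h.comm hw) _ (conj_mem_of_norm h.sT hw)
    rw [inv_eq_of_mul_self h.ss] at this
    rw [inv_eq_of_mul_self (h.sq hw)]
    refine ⟨s * w * s * w, mem_inf.2 ⟨by
      simpa [inv_eq_of_mul_self h.ss] using mul_mem (conj_mem_of_norm h.sT hw) hw,
      mem_cent1.2 ?_⟩, by simp [← mul_assoc, h.ss]⟩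
    nth_rw 1 [this]
    simp [← mul_assoc, h.ss, mul_assoc _ s s]
  have h7 := Set.ncard_le_ncard h6
  have h8 := Set.eq_of_subset_of_ncard_le h6
  rw [Set.ncard_image_of_injective _ (mul_right_injective s), ncard_coe] at h7 h8
  exact ⟨fun v hv => (h8 (Nat.le_of_mul_le_mul_right (h5 ▸ h4) Nat.card_pos)).ge ⟨v, hv, rfl⟩,
    le_antisymm ((pow_two _).trans_le h4) (by rw [← h5, pow_two]; exact Nat.mul_le_mul_right _ h7)⟩

theorem conjE (hx : orderOf x = 2) : IsConj s x := by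
  obtain ⟨y, h1, h2⟩ := h.exists_swap (ne_one_of_orderOf hx)
  have o := orderOf_eq_of_isConj h1 ▸ hx
  obtain ⟨d, -, e⟩ := conj_into h.syl h.s2 h.sN h.sT (zp_two o) (h.swap' h2
    (mul_self_of_orderOf o ▸ one_mem _)) fun e => h.ne (e.1.symm.trans h2)
  obtain ⟨w, -, e'⟩ := (h.orbE hB hE).1 _ ⟨e, mul_mem (self_mem_cent1 s) (mem_cent1.2 (by
    rw [← inv_eq_of_mul_self (h.sq e), mul_inv_rev, inv_eq_of_mul_self h.ss,
      inv_eq_of_mul_self (mul_self_of_orderOf (ord_conj o d))]))⟩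
  rw [← mul_assoc, h.ss, one_mul] at e'
  exact ((isConj_iff.2 ⟨w, e'⟩).trans (isConj_iff.2 ⟨d, rfl⟩).symm).trans h1.symm

theorem memE (k : ℕ) : ∀ y ∈ 𝐂(T), y ^ 2 ^ k = 1 → y ∈ T := by
  induction k with
  | zero => exact fun y _ e => by rw [show y = 1 by simpa using e]; exact one_mem _
  | succ k ih =>
    refine fun y hy e => by_contra fun h1 => ?_
    have h3 : y ∈ 𝐘 := ⟨cent_le_cent1 h.tT hy, cent_le_norm _ hy⟩
    obtain ⟨g, hg, h2⟩ := h.swapY h3 (fun e => h1 (h.hYE hE ⟨e, h3⟩))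
      (ih _ (mul_mem hy hy) (by rw [← pow_two, ← pow_mul, ← pow_succ', e]))
    exact h.not_cent hB ((mul_mem_cancel_right (conj_mem_of_norm (norm_cent le_rfl hg.2) hy)).1
      (h.comm (h.hYE hE h2)))

variable [Finite Ω] (he : Even (Nat.card Ω))
include he

theorem centE : 𝐂(T) ≤ T := fun x hx => by_contra fun h1 => by
  obtain ⟨P, hP, hle⟩ := exists_syl_ge h.syl.pgroup h.comm
  obtain rfl := le_antisymm hle fun y hy => (hP.pgroup ⟨y, hy⟩).elim fun k e =>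
    h.memE hB hE k y (hP.le hy) (congrArg Subtype.val e)
  obtain ⟨c, hc, e⟩ : ∃ c ∈ Γ, c ≠ x • c := by
    by_contra! e
    exact h1 ((hE.cent t h.tT h.t1).le ⟨⟨(e a h.aΓ).symm, (e b h.bΓ).symm⟩, cent_le_cent1 h.tT hx⟩)
  have h2 := (Tr.of_base (X := 𝐂(T)) (B := Γ) (y := c) (fun g hg => h.memY g (cent_le_norm _ hg))
    fun d hd => by
      rcases eq_or_ne c d with rfl | e'
      · exact ⟨1, one_mem _, one_smul ..⟩
      obtain ⟨g, hg, e3, e4⟩ := h.twoY.two c hc _ (h.memY x (cent_le_norm _ hx) c hc) c hc d hd e e'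
      exact ⟨_, conj_mem_of_norm (norm_cent le_rfl hg.2) hx, by
        rw [← e4, ← cj_smul g x, e3]⟩).relIndex hc
  have h3 := h.parT
  rw [Nat.even_iff.1 he, ← h2] at h3
  exact hP.not_dvd' ((Nat.dvd_of_mod_eq_zero h3.symm).trans (relIndex_dvd_of_le_left _ hc))

theorem fixE (hx : x ∈ 𝐃) (h1 : x ∈ 𝐍(T)) (hc : c ∈ Γ) : x • c = c := by
  have h8 := (h.orbE hB hE).2
  have := hE.ge
  rcases h.hs he (by omega) with ⟨O, -, hO, h2, h3, -⟩ | ⟨e, -⟩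
  swap
  · rw [e] at h8
    generalize Nat.card ↥𝐙 = k at h8
    rcases (show k ≤ 2 ∨ 3 ≤ k by omega) with e | e <;> nlinarith
  have h4 : 𝐃 ⊓ O = ⊥ := (h.sa.nml inf_le_left (norm_inf (le_norm _) (inf_le_left.trans h2))
    ).resolve_right fun e => inv_not_mem_odd hO h.t2 (e.ge h.tD).2
  rcases eq_or_ne a c with rfl | e
  · exact hx.1
  obtain ⟨g, hg, e1, rfl⟩ := h.twoY.two a h.aΓ b h.bΓ a h.aΓ c hc h.ne e
  obtain ⟨o, ho, d, hd, e2⟩ := (mem_sup_left_norm (inf_le_left.trans h2)).1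
    (conj_mem_of_norm' (h3 e1) (mem_sup_right hx))
  have h5 : o * d ∈ 𝐍(T) := e2 ▸ mul_mem (mul_mem (inv_mem hg.2) h1) hg.2
  have h6 := h.le (h.centE hB hE he (mem_cent.2 fun v hv => by
    have := mem_bot.1 (h4.le (mem_inf.2 ⟨(show o⁻¹ * v * o * v⁻¹ ∈ 𝐃 from mul_mem (by
      simpa [mul_assoc] using mul_mem (mul_mem hd (h.le (conj_mem_of_norm' h5 hv))) (inv_mem hd))
      (inv_mem (h.le hv))), by
        simpa [mul_assoc] using mul_mem (inv_mem ho) (conj_mem_of_norm (h2 (h.le hv).1) ho)⟩))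
    rwa [mul_inv_eq_one, mul_assoc, inv_mul_eq_iff_eq_mul] at this))
  have h7 := (mem_stab2.1 (e2 ▸ mul_mem h6 hd : g⁻¹ * x * g ∈ 𝐃)).2
  rwa [mul_smul, mul_smul, inv_smul_eq_iff] at h7

theorem twoE (hc : c ∈ Γ) (h1 : a ≠ c) : c = b := by
  obtain ⟨y, hy⟩ := h.sa.kn.sing T h.syl
  have k : ∀ x ∈ 𝐘, ∃ k : ℕ, ∀ n : ℕ, x * (y ^ n * t * (y ^ n)⁻¹) * x⁻¹ =
      y ^ (k * n) * t * (y ^ (k * n))⁻¹ := fun x hx => by
    have h2 : ∀ c ∈ Γ, (x * y * x⁻¹) • c = c := fun c hc => by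
      rw [mul_smul, mul_smul, h.fixE hB hE he hy.mem hy.norm (h.memY _ (inv_mem hx).2 c hc),
        smul_inv_smul]
    have h3 := mul_mem (mul_mem (mem_inf.1 hx).2 hy.norm) (inv_mem (mem_inf.1 hx).2)
    obtain ⟨_, hj, e⟩ := hy.trans t h.tT h.t1 _ (conj_mem_of_norm h3 h.tT)
      (ne_one_of_orderOf (ord_conj h.t2 _))
    obtain ⟨k, rfl⟩ := mem_powers_iff_mem_zpowers.2 hj
    have h4 := (hE.cent t h.tT h.t1).le (mem_inf.2 ⟨mul_mem (inv_mem (pow_mem hy.mem k))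
      (show x * y * x⁻¹ ∈ 𝐃 from ⟨h2 a h.aΓ, h2 b h.bΓ⟩), cent1_iff.2 (by
        rw [← mul_left_inj (y ^ k)⁻¹, ← mul_right_inj (y ^ k), ← mul_assoc (y ^ k) t]
        exact .trans (by group) e.symm)⟩)
    refine ⟨k, fun n => ?_⟩
    induction n with
    | zero => simpa using cent1_iff.1 hx.1
    | succ n ih =>
      have := cent1_iff.1 (cent_le_cent1 (conj_mem_of_norm (pow_mem hy.norm (k * n)) h.tT)
        (h.comm h4))
      rw [mul_add_one, add_comm (k * n), pow_add y k, mul_inv_rev, mul_assoc (y ^ k),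
        mul_assoc (y ^ k), ← mul_assoc _ _ (y ^ k)⁻¹, ← this, ← ih, pow_succ']
      group
  obtain ⟨g, hg, e1, rfl⟩ := h.twoY.two a h.aΓ b h.bΓ a h.aΓ c hc h.ne h1
  obtain ⟨k1, h2⟩ := k g hg
  obtain ⟨k2, h3⟩ := k s ⟨h.st, h.sT⟩
  have h4 := (mem_stab2.1 <| h.le (h.centE hB hE he (show (s * g)⁻¹ * (g * s) ∈ 𝐂(T) from mem_cent.2 fun v hv => by
    rcases eq_or_ne v 1 with rfl | v1
    · simp
    obtain ⟨_, hj, rfl⟩ := hy.trans t h.tT h.t1 v hv v1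
    obtain ⟨n, rfl⟩ := mem_powers_iff_mem_zpowers.2 hj
    have e2 := (congrArg (g * · * g⁻¹) (h3 n)).trans (h2 _)
    have e3 := (congrArg (s * · * s⁻¹) (h2 n)).trans (h3 _)
    rw [mul_left_comm, ← e2] at e3
    dsimp only at *
    generalize y ^ n * t * (y ^ n)⁻¹ = v at *
    calc _ = (s * g)⁻¹ * (s * (g * v * g⁻¹) * s⁻¹) * (g * s) := by group
      _ = _ := by rw [e3]; group))).1
  rwa [mul_smul, inv_smul_eq_iff, mul_smul, mul_smul, h.sab, e1, h.sab] at h4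

omit he in
theorem caseE : False := by
  refine WC.false ⟨h.syl.pgroup, fun _ => h.sq, h.comm, h.s2, h.sT, fun e => h.sD (h.le e),
    (h.orbE hB hE).1, (h.orbE hB hE).2, hE.ge, fun P hP h1 h2 h3 x hx h4 => ?_⟩
    fun _ _ h1 h2 => (h.conjE hB hE h1).symm.trans (h.conjE hB hE h2)
  rcases Nat.even_or_odd (Nat.card Ω) with he | ho
  · have e := syl_eq_of_le h.syl (pgroup_of_le hP inf_le_left) inf_le_right (le_inf h2 h.le)
    rcases eq_or_ne a (x • a) with e1 | e1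
    · exact .inl (e.ge ⟨hx, e1.symm, h.twoE hB hE he (h.memY x (h1 hx) b h.bΓ) fun e2 =>
        h.ne (MulAction.injective x (e1.symm.trans e2))⟩)
    · exact .inr (e.ge ⟨mul_mem h3 hx, h.swap' (h.twoE hB hE he (h.memY x (h1 hx) a h.aΓ) e1)
        (h4 ▸ one_mem _)⟩)
  obtain ⟨v, hv, v1⟩ := exists_ne_one (nil_meet_center hP.isNilpotent h2 h1
    (ne_bot_of_mem h.tT h.t1))
  exact invO ⟨h.dt, h.nr, h.ne, h.sa, h.syl, hv.1, v1, h.sab, h.ss, le_cent1_iff.2 hv.2 h3, h.sT⟩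
    hE ho hP (le_inf (le_cent1_iff.2 hv.2) h1) h3 hx h4

end Cfsg.Lib.HR.St
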