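import Cfsg.Agent.Lib.HR.Sp

/-!
Two point stabilizers with a Sylow four-group.
-/

set_option autoImplicit false

namespace Cfsg.Lib.HR

open MulAction Subgroup Cfsg.Lib.Perm Cfsg.Lib.BG Cfsg.Lib.BG.A10 Cfsg.Lib.GW Cfsg.Lib.Small
open Cfsg.Lib.TT
open Cfsg.Lib.Inv hiding conj_mem_of_mem_normalizer orderOf_eq_of_isConj
open scoped Cfsg.Lib.Transfer

variable {G : Type*} {Ω : Type*} [Group G] [MulAction G Ω] {a b c d : Ω} {t u s g x y z v : G}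
  {T : Subgroup G} {n : ℕ}

/-- The configuration with a Sylow four-group. -/
structure S4 (a b : Ω) (t u s : G) (n : ℕ) : Prop where
  pt : PT (stab2 G a b) t u n
  st : St a b pt.four.four t s

theorem St.s4 [Finite G] (h : St a b T t s) (h4 : Nat.card T = 4) : ∃ u n, S4 a b t u s n := by
  obtain ⟨u, hu, f⟩ := h.four
  obtain rfl := f.eq_four h4 h.tT hu
  obtain ⟨n, hP⟩ := h.sa.pt f h.syl
  exact ⟨u, n, hP, h⟩

namespace S4
variable (h : S4 a b t u s n)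
include h

local notation "𝐃" => stab2 G a b
local notation "𝐓" => FourGen.four (PT.four (S4.pt h))
local notation "Δ" => fixedBy Ω t
local notation "Γ" => FX Ω (FourGen.four (PT.four (S4.pt h)))
local notation "𝐘" => 𝐂[t] ⊓ 𝐍(FourGen.four (PT.four (S4.pt h)))

theorem four : FourGen t u := h.pt.four

theorem Γ_eq : Γ = Δ ∩ fixedBy Ω u := Set.ext fun _ => h.four.four_le_iff

variable [Finite G]

theorem hY : 𝐃 ⊓ 𝐘 ≤ 𝐓 := fun _ hx => h.pt.norm hx.1 hx.2.1 hx.2.2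

theorem swapY (hy : y ∈ 𝐘) (h1 : y ∉ 𝐓) (h2 : y * y ∈ 𝐓) : ∃ g ∈ 𝐘, s * (g * y * g⁻¹) ∈ 𝐓 :=
  (h.st.swapY hy (fun e => h1 (h.hY ⟨e, hy⟩)) h2).imp fun _ e => ⟨e.1, h.hY e.2⟩

theorem clU : Cl 𝐂[t] Δ (UU t u) (Γ).ncard :=
  ⟨fun _ hx => (UU.ii h.four hx).1, fun _ hg _ => UU.cj hg, by
    rw [h.Γ_eq]
    rintro _ ⟨c, hc, rfl | rfl⟩
    · exact h.st.twoX.fx_conj hc u
    · exact (h.st.twoX.fx_conj hc _).trans (fx_mul (h.st.leX h.four.right_mem))⟩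

theorem mem_UU (hx : x ∈ 𝐃) (h1 : x ∈ II t) : x ∈ UU t u :=
  let ⟨c, hc, e⟩ := h.pt.conj hx h1
  ⟨c, hc.2, e⟩

variable [Finite Ω]

theorem ratio : ((Δ).ncard - (Γ).ncard) * (2 * n) =
    (Γ).ncard * ((Γ).ncard - 1) * {x | x ∈ UU t u ∧ x • a = b}.ncard := by
  rw [← h.st.twoX.ratio h.st.tD.1 h.st.tD.2 h.st.ne h.clU ⟨u, 1, one_mem _, .inl (by simp)⟩,
    ← h.pt.inv]
  congr 2
  exact Set.ext fun x => ⟨fun e => ⟨h.mem_UU e.1 e.2, e.1⟩, fun e => ⟨e.2, UU.ii h.four e.1⟩⟩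

theorem cardY : Nat.card ↥𝐘 = 4 * ((Γ).ncard - 1) * (Γ).ncard := by
  rw [h.st.cardY h.hY, h.four.card_four]

theorem cardX : Nat.card 𝐂[t] = 4 * n * ((Δ).ncard - 1) * (Δ).ncard := by
  rw [h.st.cardX, h.pt.cC]

theorem eq_two (he : Even (Nat.card Ω)) (h16 : ¬ 16 ∣ Nat.card ↥𝐘) : (Γ).ncard = 2 := by
  obtain ⟨k, hk⟩ := h.st.two_pow h.hY he
  have := h.st.two_le
  rw [h.cardY, hk] at h16
  rw [hk] at this ⊢
  rcases k with _ | _ | k
  exacts [by omega, rfl, absurd ⟨(2 ^ (k + 2) - 1) * 2 ^ k, by ring⟩ h16]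

theorem exists_fix (hx : x ∈ UU t u) : ∃ c ∈ Δ, x • c = c :=
  Set.nonempty_of_ncard_ne_zero (s := Δ ∩ fixedBy Ω x) fun e => by
    have h1 := h.clU.fx x hx
    have h2 := h.st.two_le
    rw [fx, e] at h1
    omega

theorem caseC_even (hA : 𝐃 ≤ 𝐂[s]) (hn : ¬ IsConj t s) (he : Even (Nat.card Ω)) : False := by
  obtain ⟨k, hk⟩ := h.st.two_pow h.hY he
  have h1 := h.ratio
  have h2 := h.st.le_f
  have h3 := h.pt.odd.pos
  rcases Set.eq_empty_or_nonempty {x | x ∈ UU t u ∧ x • a = b} with e | ⟨x, hx, e⟩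
  · rw [e, Set.ncard_empty, mul_zero, mul_eq_zero] at h1
    exact h.st.not_pow hA hn he k (by omega)
  have key : ∀ x ∈ UU t u, x • a = b → s * x ∈ 𝐃 ∧ s * x ∈ II t := fun x hx e => by
    have h4 := UU.ii h.four hx
    obtain ⟨c, hc, e'⟩ := h.exists_fix hx
    have h5 := h.st.fpf hn he (IsConj.refl s) c
    refine ⟨h.st.swap' e (mul_self_of_orderOf h4.2.1 ▸ one_mem _), mul_mem h.st.st h4.1,
      ((h.st.casesA hA e (mul_self_of_orderOf h4.2.1)).resolve_left fun e => h5 (e ▸ e')).1,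
      fun e => h5 ?_⟩
    exact (congrArg (s • ·) e'.symm).trans ((mul_smul ..).symm.trans (e.symm ▸ hc))
  have k2 : ∀ y ∈ 𝐃, y ∈ II t → ∃ c ∈ 𝐂[t], c * (s * u) * c⁻¹ = s * y ∨
      t * (c * (s * u) * c⁻¹) = s * y := fun y hy h4 => by
    obtain ⟨c, hc, e⟩ := h.pt.conj hy h4
    refine ⟨c, hc.2, e.imp (fun e => ?_) fun e => ?_⟩ <;> rw [cj_mul, cent1_iff.1 (hA hc.1), ← e]
    rw [cj_mul, cent1_iff.1 hc.2, ← mul_assoc, ← mem_cent1.1 h.st.st, mul_assoc]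
  have k3 : s * u ∈ UU t u := by
    obtain ⟨c, hc, e⟩ := k2 _ (key x hx e).1 (key x hx e).2
    rw [← mul_assoc s, h.st.ss, one_mul] at e
    have : c * (s * u) * c⁻¹ ∈ UU t u := by
      rcases e with e | e
      · exact e ▸ hx
      · have := UU.mul h.four (e ▸ hx)
        rwa [← mul_assoc, h.four.sq, one_mul] at this
    simpa [mul_assoc] using UU.cj (inv_mem hc) this
  rw [show {x | x ∈ UU t u ∧ x • a = b} = (s * ·) '' {x | x ∈ 𝐃 ∧ x ∈ II t} from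
    Set.ext fun y => ⟨fun hy => ⟨_, key y hy.1 hy.2, by simp [← mul_assoc, h.st.ss]⟩, by
      rintro ⟨y, hy, rfl⟩
      obtain ⟨c, hc, e | e⟩ := k2 y hy.1 hy.2
      exacts [⟨show s * y ∈ _ from e ▸ UU.cj hc k3, h.st.s_mul hy.1⟩,
        ⟨show s * y ∈ _ from e ▸ UU.mul h.four (UU.cj hc k3), h.st.s_mul hy.1⟩]⟩,
    Set.ncard_image_of_injective _ (mul_right_injective s), h.pt.inv] at h1
  replace h1 := Nat.eq_of_mul_eq_mul_right (by omega) h1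
  refine h.st.not_pow hA hn he (k + k) ?_
  rw [← Nat.sub_add_cancel h2, h1, pow_add, ← hk, ← Nat.mul_succ, Nat.succ_eq_add_one,
    Nat.sub_add_cancel (h.st.two_le.trans' one_le_two)]

end S4

end Cfsg.Lib.HR
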