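import Cfsg.Agent.Lib.HR.TypP
import Cfsg.Agent.Lib.TT.Cf

/-!
Doubly transitive groups whose two point stabilizer is simple with abelian Sylow 2-subgroups:
the configuration.
-/

set_option autoImplicit false

namespace Cfsg.Lib.HR

open MulAction Subgroup Cfsg.Lib.Perm Cfsg.Lib.BG Cfsg.Lib.BG.A10 Cfsg.Lib.GW Cfsg.Lib.Small
open Cfsg.Lib.TT
open Cfsg.Lib.Inv hiding conj_mem_of_mem_normalizer orderOf_eq_of_isConj
open scoped Cfsg.Lib.Transfer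

variable {G : Type*} {Ω : Type*} [Group G] [MulAction G Ω] {a b c d : Ω} {t u s g x y z : G}
  {T X : Subgroup G} {B : Set Ω}

theorem comm_fpf [Finite G] [Finite Ω] (h : Two X B) (ha : a ∈ B)
    (hs : ∀ g ∈ X, ∀ c ∈ B, ∀ d ∈ B, c ≠ d → g • c = c → g • d = d → ∀ y ∈ B, g • y = y)
    (hx : x ∈ X) (hy : y ∈ X) (fx : ∀ c ∈ B, x • c ≠ c) (fy : ∀ c ∈ B, y • c ≠ c) (hc : c ∈ B) :
    x • y • c = y • x • c := by
  have h1 : DT (toPermHom X (sub X B h.mem)).range (sub X B h.mem) :=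
    ⟨fun x y z w h1 h2 => by
      obtain ⟨g, hg, e⟩ := h.two _ x.2 _ y.2 _ z.2 _ w.2 (Subtype.coe_ne_coe.2 h1)
        (Subtype.coe_ne_coe.2 h2)
      exact ⟨⟨_, ⟨g, hg⟩, rfl⟩, Subtype.ext e.1, Subtype.ext e.2⟩,
    fun g hg => Subtype.ext (Equiv.ext hg)⟩
  have : Nontrivial (sub X B h.mem) := ⟨⟨a, ha⟩, ⟨x • a, h.mem x hx a ha⟩,
    fun e => fx a ha (congrArg Subtype.val e).symm⟩
  obtain ⟨N, h2, h5, h3, h4⟩ := exists_regular_normal_of_sharply_two h1.mt2 (by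
    rintro ⟨_, g, rfl⟩ c d h2 h3 h4
    exact Subtype.ext (Equiv.ext fun y => Subtype.ext (hs g g.2 _ c.2 _ d.2
      (Subtype.coe_ne_coe.2 h2) (congrArg Subtype.val h3) (congrArg Subtype.val h4) _ y.2)))
  have k : ∀ z (hz : z ∈ X), (∀ c ∈ B, z • c ≠ c) → (⟨_, ⟨z, hz⟩, rfl⟩ :
      (toPermHom X (sub X B h.mem)).range) ∈ N := fun z hz e =>
    (h5 _).2 (.inr fun c e' => e c c.2 (congrArg Subtype.val e'))
  have h6 := le_cent_iff.1 (abelian_cent (Cfsg.Agent.S0054.result h1.mt2 N h3 h4).1) _ (k x hx fx)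
    _ (k y hy fy)
  exact congrArg (fun g : (toPermHom X (sub X B h.mem)).range => ((g • (⟨c, hc⟩ :
    sub X B h.mem) : sub X B h.mem) : Ω)) h6

theorem witt {P W : Subgroup G} [Finite G] (hP : Syl 2 P W) (hg : g ⋆ P ≤ W) :
    ∃ k ∈ W, k * g ∈ 𝐍(P) :=
  let ⟨k, hk, e⟩ := hP.exists_conj_le ((pgroup_conj g).2 hP.pgroup) hg
  ⟨k, hk, Transfer.mem_normalizer_of_conj_le (Transfer.conj_conj k g P ▸ e)⟩

theorem conj_stab2 (g : G) (a b : Ω) : g ⋆ stab2 G a b = stab2 G (g • a) (g • b) :=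
  Subgroup.ext fun x => by
    rw [Transfer.mem_conj]
    simp [mem_stab2, mul_smul, inv_smul_eq_iff]

/-- The fixed points of a subgroup. -/
def FX (Ω : Type*) [MulAction G Ω] (T : Subgroup G) : Set Ω := {c | T ≤ stabilizer G c}

theorem card_modEq_fix [Finite G] [Finite Ω] (hT : IsPGroup 2 T) :
    Nat.card Ω % 2 = (FX Ω T).ncard % 2 := by
  have := hT.card_modEq_card_fixedPoints Ω
  rwa [show Nat.card (fixedPoints T Ω) = (FX Ω T).ncard from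
    congrArg Set.ncard (Set.ext fun c => ⟨fun h v hv => h ⟨v, hv⟩, fun h v => h v.2⟩)] at this

/-- The configuration. -/
structure St (a b : Ω) (T : Subgroup G) (t s : G) : Prop where
  dt : DT G Ω
  nr : ¬ Reg G Ω
  ne : a ≠ b
  sa : SA (stab2 G a b)
  syl : Syl 2 T (stab2 G a b)
  tT : t ∈ T
  t1 : t ≠ 1
  sab : s • a = b
  ss : s * s = 1
  st : s ∈ 𝐂[t]
  sT : s ∈ 𝐍(T)

namespace St
variable (h : St a b T t s)
include h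

local notation "𝐃" => stab2 G a b
local notation "Δ" => fixedBy Ω t
local notation "Γ" => FX Ω T
local notation "𝐘" => 𝐂[t] ⊓ 𝐍(T)

theorem sb : s • b = a := by rw [← h.sab, ← mul_smul, h.ss, one_smul]

theorem s2 : orderOf s = 2 :=
  orderOf_eq_two_iff.2 ⟨fun e => h.ne (by rw [← h.sab, e, one_smul]), h.ss⟩

theorem le : T ≤ 𝐃 := h.syl.le

theorem tD : t ∈ 𝐃 := h.le h.tT

theorem sD : s ∉ 𝐃 := fun e => h.ne (e.1.symm.trans h.sab)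

theorem aΓ : a ∈ Γ := fun _ hv => (h.le hv).1

theorem bΓ : b ∈ Γ := fun _ hv => (h.le hv).2

theorem ΓΔ : Γ ⊆ Δ := fun _ hc => hc h.tT

theorem swap (h1 : x • a = b) (h2 : x • b = a) : s * x ∈ 𝐃 :=
  mem_stab2.2 ⟨by rw [mul_smul, h1, h.sb], by rw [mul_smul, h2, h.sab]⟩

theorem swap' (h1 : x • a = b) (h2 : x * x ∈ 𝐃) : s * x ∈ 𝐃 :=
  h.swap h1 (by rw [← h1, ← mul_smul, h2.1])

theorem s_mul (hx : x ∈ 𝐃) : (s * x) • a = b := by rw [mul_smul, hx.1, h.sab]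

theorem sN : s ∈ 𝐍(𝐃) := norm_of_conj_eq (by rw [conj_stab2, h.sab, h.sb]; exact inf_comm ..)

theorem exists_swap (hx : x ≠ 1) : ∃ y, IsConj x y ∧ y • a = b := by
  obtain ⟨c, hc⟩ := not_forall.1 fun e => hx (h.dt.faith x e)
  obtain ⟨g, e1, e2⟩ := h.dt.two c _ a b (Ne.symm hc) h.ne
  exact ⟨_, isConj_iff.2 ⟨g, rfl⟩, by rw [← e1, cj_smul, e2]⟩

theorem memY : ∀ g ∈ 𝐍(T), ∀ c ∈ Γ, g • c ∈ Γ := fun _ hg _ hc => smul_mem_fix hg hc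

variable [Finite G]

theorem sa' (hcd : c ≠ d) : SA (stab2 G c d) := by
  obtain ⟨g, rfl, rfl⟩ := h.dt.two a b c d h.ne hcd
  exact conj_stab2 g a b ▸ h.sa.map (MulAut.conj g).injective

theorem sq (hx : x ∈ T) : x * x = 1 := h.sa.sq h.syl.pgroup h.le hx

theorem tt : t * t = 1 := h.sq h.tT

theorem t2 : orderOf t = 2 := orderOf_eq_two_iff.2 ⟨h.t1, h.tt⟩

theorem comm : T ≤ 𝐂(T) := abelian_cent (h.sa.comm h.syl.pgroup h.le)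

theorem leX : T ≤ 𝐂[t] := h.comm.trans (cent_le_cent1 h.tT)

theorem leY : T ≤ 𝐘 := le_inf h.leX (le_norm _)

theorem ge : 4 ≤ Nat.card T := h.sa.kn.ge T h.syl

theorem four : ∃ u ∈ T, FourGen t u := by
  obtain ⟨u, hu, u1, ut, -⟩ := Ab.exists_two_ne h.ge t t
  exact ⟨u, hu, h.t1, u1, ut.symm, h.tt, h.sq hu, (mem_cent1.1 (h.leX hu)).symm⟩

theorem one (hx : x ∈ 𝐃) (o : orderOf x = 2) : ∃ d ∈ 𝐃, d * t * d⁻¹ = x :=
  h.sa.one h.syl h.tT h.t1 hx o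

theorem conj_of_fix (hx : orderOf x = 2) (hcd : c ≠ d) (h1 : x • c = c) (h2 : x • d = d) :
    IsConj t x := by
  obtain ⟨g, e1, e2⟩ := h.dt.two c d a b hcd h.ne
  obtain ⟨k, -, e⟩ := h.one (e1 ▸ e2 ▸ conj_mem_stab2_smul g ⟨h1, h2⟩) (ord_conj hx g)
  exact (isConj_iff.2 ⟨k, e⟩).trans (isConj_iff.2 ⟨g, rfl⟩).symm

theorem twoX : Two 𝐂[t] Δ := Two.of_base (a := a) (b := b) (fun _ hg _ => smul_fix hg)
  fun c hc d hd hcd => by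
    obtain ⟨g, e1, e2⟩ := h.dt.two c d a b hcd h.ne
    obtain ⟨k, hk, e⟩ := h.one (e1 ▸ e2 ▸ conj_mem_stab2_smul g ⟨hc, hd⟩) (ord_conj h.t2 g)
    refine ⟨k⁻¹ * g, cent1_iff.2 ?_, ?_, ?_⟩
    · rw [← mul_left_inj k⁻¹, ← mul_right_inj k, ← mul_assoc k t, e]; group
    · rw [mul_smul, e1, (inv_mem hk).1]
    · rw [mul_smul, e2, (inv_mem hk).2]

theorem sylC : Syl 2 T (𝐃 ⊓ 𝐂[t]) := h.syl.of_le (le_inf h.le h.leX) inf_le_left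

theorem twoY : Two 𝐘 Γ := Two.of_base (a := a) (b := b) (fun g hg => h.memY g hg.2)
  fun c hc d hd hcd => by
    obtain ⟨g, hg, e1, e2⟩ := h.twoX.two c (h.ΓΔ hc) d (h.ΓΔ hd) a h.tD.1 b h.tD.2 hcd h.ne
    obtain ⟨k, hk, e⟩ := witt (g := g) h.sylC (Transfer.conj_le_iff.2 fun x hx =>
      mem_inf.2 ⟨e1 ▸ e2 ▸ conj_mem_stab2_smul g ⟨hc hx, hd hx⟩,
        mul_mem (mul_mem hg (h.leX hx)) (inv_mem hg)⟩)
    exact ⟨k * g, ⟨mul_mem hk.2 hg, e⟩, by rw [mul_smul, e1, hk.1.1], by rw [mul_smul, e2, hk.1.2]⟩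

/-- An element of `Y` moving a point of `Γ` with square in `T` is conjugate into `s (D ∩ Y)`. -/
theorem swapY (hy : y ∈ 𝐘) (h1 : y ∉ 𝐃) (h2 : y * y ∈ T) :
    ∃ g ∈ 𝐘, s * (g * y * g⁻¹) ∈ 𝐃 ⊓ 𝐘 := by
  obtain ⟨c, hc, e⟩ : ∃ c ∈ Γ, c ≠ y • c := by
    by_contra! e
    exact h1 ⟨(e a h.aΓ).symm, (e b h.bΓ).symm⟩
  obtain ⟨g, hg, e1, e2⟩ := h.twoY.two c hc _ (h.twoY.mem y hy c hc) a h.aΓ b h.bΓ e h.ne
  exact ⟨g, hg, mem_inf.2 ⟨h.swap' (by rw [← e1, cj_smul, e2]) (h.le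
    (cj_mul g y y ▸ conj_mem_of_norm hg.2 h2)),
    mul_mem (mem_inf.2 ⟨h.st, h.sT⟩) (mul_mem (mul_mem hg hy) (inv_mem hg))⟩⟩

theorem sharp (hY : 𝐃 ⊓ 𝐘 ≤ T) (hy : y ∈ 𝐘) (hc : c ∈ Γ) (hd : d ∈ Γ) (hcd : c ≠ d)
    (h1 : y • c = c) (h2 : y • d = d) : y ∈ T := by
  obtain ⟨g, hg, e1, e2⟩ := h.twoY.two c hc d hd a h.aΓ b h.bΓ hcd h.ne
  simpa [mul_assoc] using conj_mem_of_norm' hg.2 (hY (mem_inf.2
    ⟨e1 ▸ e2 ▸ conj_mem_stab2_smul g ⟨h1, h2⟩, mul_mem (mul_mem hg hy) (inv_mem hg)⟩))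

theorem core : oddCore G = ⊥ := h.dt.oddCore_eq_bot h.nr

theorem ncard_inv : {x | x ∈ 𝐃 ∧ orderOf x = 2}.ncard * Nat.card ↥(𝐃 ⊓ 𝐂[t]) = Nat.card 𝐃 := by
  rw [← ncard_conj_mul 𝐃 t]
  congr 2
  exact Set.ext fun x => ⟨fun e => h.one e.1 e.2, fun ⟨c, hc, e⟩ => e ▸
    ⟨mul_mem (mul_mem hc h.tD) (inv_mem hc), ord_conj h.t2 c⟩⟩

variable [Finite Ω]

theorem par : Nat.card Ω % 2 = (Δ).ncard % 2 := by
  have h1 := ncard_modEq_fix (p := 2) (k := 1) (g := t) (X := (Set.univ : Set Ω))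
    (by rw [pow_one, pow_two, h.tt]) fun _ _ => trivial
  rwa [Set.ncard_univ, Set.univ_inter] at h1

theorem parT : Nat.card Ω % 2 = (Γ).ncard % 2 := card_modEq_fix h.syl.pgroup

omit [Finite G] in
theorem two_le : 2 ≤ (Γ).ncard := Two.two_le h.aΓ h.bΓ h.ne

omit [Finite G] in
theorem le_f : (Γ).ncard ≤ (Δ).ncard := Set.ncard_le_ncard h.ΓΔ

omit [Finite G] in
theorem two_le_f : 2 ≤ (Δ).ncard := h.two_le.trans h.le_f

omit [Finite G] in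
theorem lt_n : (Δ).ncard < Nat.card Ω := by
  rw [← Set.ncard_univ]
  exact Set.ncard_lt_ncard (Set.ssubset_univ_iff.2 fun e => h.t1
    (h.dt.faith t fun x => (e.ge trivial : x ∈ Δ)))

theorem cardX : Nat.card 𝐂[t] = Nat.card ↥(𝐃 ⊓ 𝐂[t]) * ((Δ).ncard - 1) * (Δ).ncard := by
  rw [h.twoX.card h.tD.1 h.tD.2 h.ne, inf_comm]

theorem cardY (hY : 𝐃 ⊓ 𝐘 ≤ T) : Nat.card ↥𝐘 = Nat.card T * ((Γ).ncard - 1) * (Γ).ncard := by
  rw [h.twoY.card h.aΓ h.bΓ h.ne, inf_comm, le_antisymm hY (le_inf h.le h.leY)]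

theorem ppow (hY : 𝐃 ⊓ 𝐘 ≤ T) : ∃ q k : ℕ, q.Prime ∧ (Γ).ncard = q ^ k :=
  h.twoY.prime_pow h.aΓ h.bΓ h.ne fun _ hg _ hc _ hd h1 h2 h3 _ hy =>
    hy (h.sharp hY hg hc hd h1 h2 h3)

theorem two_pow (hY : 𝐃 ⊓ 𝐘 ≤ T) (he : Even (Nat.card Ω)) : ∃ k, (Γ).ncard = 2 ^ k := by
  obtain ⟨q, k, hq, e⟩ := h.ppow hY
  have := h.parT
  rw [Nat.even_iff.1 he, e] at this
  obtain rfl := (Nat.prime_dvd_prime_iff_eq Nat.prime_two hq).1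
    (Nat.prime_two.dvd_of_dvd_pow (n := k) (by omega))
  exact ⟨k, e⟩

theorem gam : {x | IsConj t x ∧ x • a = b}.ncard * (((Δ).ncard - 1) * (Δ).ncard) =
    {x | x ∈ 𝐃 ∧ orderOf x = 2}.ncard * (Nat.card Ω - (Δ).ncard) := by
  have := h.dt.count_move h.ne t
  rw [h.cardX, ← h.ncard_inv] at this
  exact Nat.eq_of_mul_eq_mul_left (Nat.card_pos (α := ↥(𝐃 ⊓ 𝐂[t]))) (by linarith)

end St

end Cfsg.Lib.HR
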