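import Cfsg.Agent.Lib.HR.Set

/-!
The split case: an involution `s` interchanging `a` and `b` centralizes the stabilizer `D`.
-/

set_option autoImplicit false

namespace Cfsg.Lib.HR.St

open MulAction Subgroup Cfsg.Lib.Perm Cfsg.Lib.BG Cfsg.Lib.BG.A10 Cfsg.Lib.GW Cfsg.Lib.Small
open Cfsg.Lib.TT
open Cfsg.Lib.Inv hiding conj_mem_of_mem_normalizer orderOf_eq_of_isConj
open scoped Cfsg.Lib.Transfer

variable {G : Type*} {Ω : Type*} [Group G] [MulAction G Ω] {a b c d : Ω} {t u s g x y z v : G}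
  {T : Subgroup G} [Finite G] (h : St a b T t s) (hA : stab2 G a b ≤ 𝐂[s])
include h

local notation "𝐃" => stab2 G a b
local notation "Δ" => fixedBy Ω t
local notation "Γ" => FX Ω T

theorem sq_of_conj (e : IsConj t x) : x * x = 1 :=
  mul_self_of_orderOf (orderOf_eq_of_isConj e ▸ h.t2)

theorem gam_ne [Finite Ω] : {x | IsConj t x ∧ x • a = b}.Nonempty := by
  obtain ⟨y, h1, h2⟩ := h.exists_swap h.t1
  exact ⟨y, h1, h2⟩

theorem no_central (hx : x * x = 1) (h1 : x ≠ 1) : ¬ ∀ g, g ∈ 𝐂[x] := fun k =>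
  h.nr (h.dt.reg_of_comm (N := .zpowers x) ⟨fun y hy g => by
    rwa [cent1_iff.1 (cent_le_cent1 hy (cent_zpowers x ▸ k g))]⟩ (zpowers_ne_bot.2 h1)
    inferInstance)

include hA

theorem casesA (h1 : x • a = b) (h2 : x * x = 1) : x = s ∨
    orderOf (s * x) = 2 ∧ IsConj (s * t) x := by
  have h3 := h.swap' h1 (h2 ▸ one_mem _)
  refine or_iff_not_imp_left.2 fun e => ?_
  have h4 : orderOf (s * x) = 2 := orderOf_eq_two_iff.2 ⟨fun e' => e (by
    rw [eq_inv_of_mul_eq_one_right e', inv_eq_of_mul_self h.ss]), by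
      rw [← mul_assoc, mem_cent1.1 (hA h3), ← mul_assoc, h.ss, one_mul, h2]⟩
  obtain ⟨d, hd, e⟩ := h.one h3 h4
  exact ⟨h4, isConj_iff.2 ⟨d, by rw [cj_mul, e, cent1_iff.1 (hA hd), ← mul_assoc, h.ss, one_mul]⟩⟩

theorem conj_s_mul (hx : x ∈ 𝐃) (o : orderOf x = 2) : IsConj (s * t) (s * x) := by
  obtain ⟨d, hd, rfl⟩ := h.one hx o
  exact isConj_iff.2 ⟨d, by rw [cj_mul, cent1_iff.1 (hA hd)]⟩

/-- Two conjugates of `s` which move a point in the same way are equal. -/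
theorem uniq (hn : ¬ IsConj s (s * t)) (hx : IsConj s x) (hy : IsConj s y)
    (h1 : x • c ≠ c) (h2 : x • c = y • c) : x = y := by
  obtain ⟨g, e1, e2⟩ := h.dt.two c _ a b h1.symm h.ne
  have k : ∀ z, IsConj s z → z • c = x • c → g * z * g⁻¹ = s := fun z hz e => by
    have hz' := hz.trans (isConj_iff.2 ⟨g, rfl⟩)
    exact (h.casesA hA (by rw [← e1, cj_smul, e, e2]) (mul_self_of_orderOf
      (orderOf_eq_of_isConj hz' ▸ h.s2))).resolve_right fun e => hn (hz'.trans e.2.symm)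
  simpa using (k x hx rfl).trans (k y hy h2.symm).symm

theorem one_swap (hn : ¬ IsConj s (s * t)) {U : Set G} (hU : ∀ x ∈ U, IsConj s x) :
    {x | x ∈ U ∧ x • a = b}.ncard ≤ 1 :=
  (Set.ncard_le_ncard (t := {s}) fun x hx => h.uniq hA hn (hU x hx.1) (IsConj.refl s) (c := a)
    (hx.2.trans_ne h.ne.symm) (hx.2.trans h.sab.symm)).trans_eq (Set.ncard_singleton _)

/-- A conjugate of the stabilizer which centralizes `t`. -/
theorem exists_cent (e : IsConj t s) : ∃ c d : Ω, c ≠ d ∧ t • c = d ∧ stab2 G c d ≤ 𝐂[t] ∧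
    ∀ x ∈ stab2 G c d, orderOf x = 2 → IsConj (s * t) (t * x) := by
  obtain ⟨g, e⟩ := isConj_iff.1 e.symm
  refine ⟨g • a, g • b, fun e => h.ne (MulAction.injective g e), by
    rw [← e, cj_smul, h.sab], ?_, ?_⟩ <;> rw [← conj_stab2]
  · rw [← e, ← conj_cent1]; exact Transfer.conj_mono g hA
  · rintro _ ⟨x, hx, rfl⟩ o
    refine (h.conj_s_mul hA hx ((orderOf_injective _ (MulAut.conj g).injective x).symm.trans
      o)).trans (isConj_iff.2 ⟨g, ?_⟩)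
    rw [cj_mul, e]; rfl

omit hA in
theorem faithful (hcd : c ≠ d) (h1 : t • c = d) (hle : stab2 G c d ≤ 𝐂[t]) (hx : x ∈ stab2 G c d)
    (hf : ∀ y ∈ Δ, x • y = y) : x = 1 := by_contra fun x1 => by
  have h2 : stab2 G c d ≤ fixingSubgroup G Δ := (h.sa' hcd).le_of_inf (le_norm_iff.2
    fun g hg k hk => (mem_fixingSubgroup_iff G).2 fun y hy => by
      rw [mul_smul, mul_smul, (mem_fixingSubgroup_iff G).1 hk _ (smul_fix (inv_mem (hle hg)) hy),
        smul_inv_smul]) hx ((mem_fixingSubgroup_iff G).2 hf) x1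
  have h3 : stab2 G c d = 𝐃 := eq_of_le_of_card_le (fun g hg =>
    ⟨(mem_fixingSubgroup_iff G).1 (h2 hg) a h.tD.1, (mem_fixingSubgroup_iff G).1 (h2 hg) b h.tD.2⟩)
    (by obtain ⟨g, rfl, rfl⟩ := h.dt.two a b c d h.ne hcd
        rw [← conj_stab2, Transfer.card_conj])
  exact hcd ((h3.ge h.tD).1.symm.trans h1)

variable [Finite Ω]

section b
variable (e : IsConj t s) (hn : ¬ IsConj s (s * t))
include e hn

theorem fix_eq (hx : x ∈ 𝐃) (hc : x ∈ 𝐂[t]) (o : orderOf x = 2) : ∀ y ∈ Δ, x • y = y := by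
  rcases eq_or_ne x t with rfl | xt
  · exact fun _ hy => hy
  have f := four_of_II h.t2 ⟨hc, o, xt⟩
  have k : ∀ z ∈ 𝐃, orderOf z = 2 → IsConj t z := fun z hz o =>
    h.conj_of_fix o h.ne hz.1 hz.2
  have h1 : ∀ y ∈ fixedBy Ω (t * x), t • y = y ∧ x • y = y := fun y hy => by
    have h2 : t • y = x • y := by
      rw [← show (t * x) • y = y from hy, ← mul_smul, f.mul_mul_left, show (t * x) • y = y from hy]
    have h3 : t • y = y := by_contra fun h3 =>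
      xt (h.uniq hA hn e.symm (e.symm.trans (k x hx o)) h3 h2).symm
    exact ⟨h3, h2 ▸ h3⟩
  obtain ⟨g, e'⟩ := isConj_iff.1 (k _ (mul_mem h.tD hx) (four_mul_ord f))
  have h2 := Set.eq_of_subset_of_ncard_le (s := fixedBy Ω (t * x)) (t := Δ) (fun y hy => (h1 y hy).1)
    (by rw [← e', ncard_fix_conj])
  exact fun y hy => (h1 y (h2.ge hy)).2

theorem fix_cent : 𝐃 ⊓ 𝐂[t] ≤ fixingSubgroup G Δ := by
  have k : ∀ x ∈ 𝐃 ⊓ 𝐂[t], x * x = 1 → x ∈ fixingSubgroup G Δ := fun x hx e' => by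
    rcases eq_or_ne x 1 with rfl | x1
    exacts [one_mem _, (mem_fixingSubgroup_iff G).2
      (h.fix_eq hA e hn hx.1 hx.2 (orderOf_eq_two_iff.2 ⟨x1, e'⟩))]
  have kT : T ≤ fixingSubgroup G Δ := fun x hx => k x ⟨h.le hx, h.leX hx⟩ (h.sq hx)
  rcases h.sa.tri h.syl with h4 | hE | hR
  · obtain ⟨u, hu, f⟩ := h.four
    obtain rfl := f.eq_four h4 h.tT hu
    obtain ⟨n, hP⟩ := h.sa.pt f h.syl
    have c1 := card_mul_relIndex (inf_le_left : 𝐃 ⊓ 𝐂[t] ⊓ fixingSubgroup G Δ ≤ _)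
    have c2 := Set.ncard_le_ncard (s := insert 1 {x | x ∈ 𝐃 ∧ x ∈ II t})
      (t := (𝐃 ⊓ 𝐂[t] ⊓ fixingSubgroup G Δ : Subgroup G)) (by
        rintro x (rfl | hx)
        exacts [one_mem _, ⟨⟨hx.1, hx.2.1⟩, k x ⟨hx.1, hx.2.1⟩ (mul_self_of_orderOf hx.2.2.1)⟩])
    rw [Set.ncard_insert_of_notMem (fun e => ne_one_of_orderOf e.2.2.1 rfl), hP.inv,
      ncard_coe] at c2
    rw [hP.cC, inf_relIndex_left] at c1
    refine relIndex_eq_one.1 (by_contra fun e' => ?_)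
    have : 2 ≤ (fixingSubgroup G Δ).relIndex (𝐃 ⊓ 𝐂[t]) :=
      (Nat.two_le_iff _).2 ⟨index_ne_zero_of_finite, e'⟩
    nlinarith
  · exact (hE.cent t h.tT h.t1).le.trans kT
  have hR := hR t h.tT h.t1
  obtain ⟨u, hu, f⟩ := h.four
  have h1 : ⁅𝐃 ⊓ 𝐂[t], 𝐃 ⊓ 𝐂[t]⁆ ≤ fixingSubgroup G Δ := by
    have h2 : ⁅𝐃 ⊓ 𝐂[t], 𝐃 ⊓ 𝐂[t]⁆ ≤ 𝐍(fixingSubgroup G Δ) := le_norm_iff.2
      fun g hg k hk => (mem_fixingSubgroup_iff G).2 fun y hy => by
        rw [mul_smul, mul_smul, (mem_fixingSubgroup_iff G).1 hk _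
          (smul_fix (inv_mem (der_le _ hg).2) hy), smul_inv_smul]
    rcases hR.cases u ⟨h.le hu, h.leX hu⟩ with e | e
    exacts [hR.sa.le_of_inf h2 e (kT hu) f.ne_one',
      hR.sa.le_of_inf h2 e (kT (mul_mem h.tT hu)) f.mul_ne_one]
  exact fun x hx => (hR.cases x hx).elim (h1 ·) fun e => (mul_mem_cancel_left (kT h.tT)).1 (h1 e)

theorem caseB : False := by
  obtain ⟨c, d, hcd, h1, hle, h2⟩ := h.exists_cent hA e
  have hs := h.sa' hcd
  have tD : t ∉ stab2 G c d := fun e => hcd (e.1.symm.trans h1)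
  have k : ∀ x ∈ stab2 G c d, orderOf x = 2 → ∀ p ∈ Δ, ∀ q ∈ Δ, x • p = p → x • q = q → p = q :=
    fun x hx o p hp q hq e1 e2 => by_contra fun e3 => hn ((e.symm.trans (h.conj_of_fix
      (four_mul_ord (four_of_II h.t2 ⟨hle hx, o, fun e => tD (e ▸ hx)⟩)) e3
      (by rw [mul_smul, e1]; exact hp) (by rw [mul_smul, e2]; exact hq))).trans (h2 x hx o).symm)
  obtain ⟨P, hP⟩ := exists_syl 2 (stab2 G c d)
  obtain ⟨v, hv, v1, -⟩ := Ab.exists_two_ne (hs.kn.ge P hP) 1 1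
  obtain ⟨w, hw, w1, wv, -⟩ := Ab.exists_two_ne (hs.kn.ge P hP) v v
  have v2 := orderOf_eq_two_iff.2 ⟨v1, hs.kn.sq P hP v hv⟩
  have w2 := orderOf_eq_two_iff.2 ⟨w1, hs.kn.sq P hP w hw⟩
  by_cases h3 : ∃ p ∈ Δ, v • p = p
  · obtain ⟨p, hp, h3⟩ := h3
    have h4 := fx_one hp h3 (k v (hP.le hv) v2)
    have h5 := h.twoX.one_eq h.tD.1 h.tD.2 h.ne hp
      (U := {x | x ∈ 𝐂[t] ∧ IsConj s x ∧ fx Δ x = 1}) ⟨fun _ hx => hx.1, fun g hg x hx =>
        ⟨mul_mem (mul_mem hg hx.1) (inv_mem hg), hx.2.1.trans (isConj_iff.2 ⟨g, rfl⟩),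
          (h.twoX.fx_conj hg x).trans hx.2.2⟩, fun _ hx => hx.2.2⟩
    have h6 : w • p = p := k v (hP.le hv) v2 _ (smul_fix (hle (hP.le hw)) hp) p hp
      (smul_fix (cent_le_cent1 hv (abelian_cent (hs.comm hP.pgroup hP.le) hw)) h3) h3
    refine absurd (h5.trans_le (h.one_swap hA hn fun x hx => hx.2.1)) (not_le.2
      ((Set.one_lt_ncard (Set.toFinite _)).2 ⟨w, ⟨⟨hle (hP.le hw), ?_,
        fx_one hp h6 (k w (hP.le hw) w2)⟩, h6⟩, v, ⟨⟨hle (hP.le hv), ?_, h4⟩, h3⟩, wv⟩))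
    exacts [e.symm.trans (h.conj_of_fix w2 hcd (hP.le hw).1 (hP.le hw).2),
      e.symm.trans (h.conj_of_fix v2 hcd (hP.le hv).1 (hP.le hv).2)]
  have k2 : ∀ g ∈ stab2 G c d, ∀ p ∈ Δ, (g * v * g⁻¹) • p ≠ p := fun g hg p hp e =>
    h3 ⟨g⁻¹ • p, smul_fix (inv_mem (hle hg)) hp, by
      rw [eq_inv_smul_iff, ← mul_smul, ← mul_smul, e]⟩
  have hc : ∀ g ∈ stab2 G c d, ∀ k ∈ stab2 G c d, g * v * g⁻¹ ∈ 𝐂[k * v * k⁻¹] :=
    fun g hg k hk => by
      have m1 := mul_mem (mul_mem hg (hP.le hv)) (inv_mem hg)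
      have m2 := mul_mem (mul_mem hk (hP.le hv)) (inv_mem hk)
      rw [mem_cent1, ← inv_mul_eq_one]
      refine h.faithful hcd h1 hle (mul_mem (inv_mem (mul_mem m1 m2)) (mul_mem m2 m1)) fun y hy => ?_
      rw [mul_smul, inv_smul_eq_iff, mul_smul, mul_smul _ (k * v * k⁻¹)]
      refine comm_fpf h.twoX h.tD.1 (fun x hx p hp q hq e e1 e2 y hy => ?_) (hle m2) (hle m1)
        (k2 k hk) (k2 g hg) hy
      obtain ⟨r, hr, e3, e4⟩ := h.twoX.two p hp q hq a h.tD.1 b h.tD.2 e h.ne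
      have := (mem_fixingSubgroup_iff G).1 (h.fix_cent hA ‹_› hn (mem_inf.2
        ⟨e3 ▸ e4 ▸ conj_mem_stab2_smul r ⟨e1, e2⟩, mul_mem (mul_mem hr hx) (inv_mem hr)⟩)) _
        (smul_fix hr hy)
      rwa [cj_smul, smul_left_cancel_iff] at this
  refine v1 (hs.eq_one (hP.le hv) ((hs.le_of_inf (N := 𝐂(closure
    {x | ∃ k ∈ stab2 G c d, k * v * k⁻¹ = x})) (norm_cent (le_norm_iff.2 fun g hg x hx => ?_))
    (hP.le hv) ?_ v1).trans (cent_le_cent1 (subset_closure ⟨1, one_mem _, by simp⟩))))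
  · refine Transfer.conj_le_iff.1 ?_ x hx
    rw [MonoidHom.map_closure]
    refine closure_mono ?_
    rintro _ ⟨_, ⟨k, hk, rfl⟩, rfl⟩
    exact ⟨g * k, mul_mem hg hk, by simp [mul_assoc]⟩
  · refine le_cent1_iff.1 ((closure_le _).2 ?_)
    rintro _ ⟨k, hk, rfl⟩
    simpa using hc k hk 1 (one_mem _)

end b

section c
variable (hn : ¬ IsConj t s)
include hn

theorem conj_st : IsConj t (s * t) := by
  obtain ⟨x, h1, h2⟩ := h.gam_ne
  exact h1.trans ((h.casesA hA h2 (h.sq_of_conj h1)).resolve_left fun e => hn (e ▸ h1)).2.symm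

theorem not_conj : ¬ IsConj s (s * t) := fun e => hn ((h.conj_st hA hn).trans e.symm)

omit hA [Finite Ω] in
theorem fix_le (hx : IsConj s x) (h1 : x • c = c) (h2 : x • d = d) : c = d :=
  by_contra fun e => hn ((h.conj_of_fix (orderOf_eq_of_isConj hx ▸ h.s2) e h1 h2).trans hx.symm)

theorem caseC_odd (ho : Odd (Nat.card Ω)) : False := by
  have k : ∀ x, IsConj s x → fx (Set.univ : Set Ω) x = 1 := fun x hx => by
    obtain ⟨c, -, e⟩ := exists_fix_of_odd (X := (Set.univ : Set Ω)) (mul_self_of_orderOf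
      (orderOf_eq_of_isConj hx ▸ h.s2)) (fun _ _ => trivial) (by rwa [Set.ncard_univ])
    exact fx_one trivial e fun c _ d _ => h.fix_le hn hx
  have hz : IsIsolatedInvolution s := ⟨h.s2, fun g e => by
    have hg : IsConj s (g * s * g⁻¹) := isConj_iff.2 ⟨g, rfl⟩
    obtain ⟨c, hc⟩ := Set.nonempty_of_ncard_ne_zero ((k s (IsConj.refl s)).trans_ne one_ne_zero)
    have h1 := (h.dt.top.one_eq trivial trivial h.ne (c := c) trivial (U := {x | IsConj s x})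
      ⟨fun _ _ => trivial, fun g _ x hx => IsConj.trans hx (isConj_iff.2 ⟨g, rfl⟩), k⟩).trans_le
      (h.one_swap hA (h.not_conj hA hn) fun _ hx => hx)
    exact (Set.ncard_le_one (Set.toFinite _)).1 h1 _ ⟨hg, h.fix_le hn (IsConj.refl s)
      (smul_fix (mem_cent1.2 e.eq.symm) hc.2) hc.2⟩ _ ⟨IsConj.refl s, hc.2⟩⟩
  refine h.no_central h.ss (ne_one_of_orderOf h.s2) fun g => mem_cent1_symm (cent1_iff.2 ?_)
  exact mul_inv_eq_one.1 (mem_bot.1 (h.core ▸ ZStar.zstar hz g))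

omit hA in
theorem fpf (he : Even (Nat.card Ω)) (hx : IsConj s x) (c : Ω) : x • c ≠ c := fun e => by
  have h1 := ncard_modEq_fix (p := 2) (k := 1) (g := x) (X := (Set.univ : Set Ω))
    (by rw [pow_one, pow_two, mul_self_of_orderOf (orderOf_eq_of_isConj hx ▸ h.s2)])
    fun _ _ => trivial
  rw [Set.ncard_univ, show (Set.univ ∩ fixedBy Ω x).ncard = 1 from
    fx_one trivial e fun c _ d _ => h.fix_le hn hx] at h1
  exact absurd ((Nat.even_iff.1 he).symm.trans h1) (by decide)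

theorem sigC : {x | IsConj t x ∧ x • a = b}.ncard = {x | x ∈ 𝐃 ∧ orderOf x = 2}.ncard := by
  rw [← Set.ncard_image_of_injective {x | x ∈ 𝐃 ∧ orderOf x = 2} (mul_right_injective s)]
  congr 1
  refine Set.ext fun x => ⟨fun hx => ⟨s * x, ⟨h.swap' hx.2 (h.sq_of_conj hx.1 ▸ one_mem _),
    ((h.casesA hA hx.2 (h.sq_of_conj hx.1)).resolve_left fun e => hn (e ▸ hx.1)).1⟩,
    by simp [← mul_assoc, h.ss]⟩, ?_⟩
  rintro ⟨y, hy, rfl⟩
  exact ⟨(h.conj_st hA hn).trans (h.conj_s_mul hA hy.1 hy.2), h.s_mul hy.1⟩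

theorem card_sq : Nat.card Ω = (Δ).ncard ^ 2 := by
  have h1 := h.gam
  rw [h.sigC hA hn] at h1
  have h2 := Nat.eq_of_mul_eq_mul_left ((Set.ncard_pos (s := {x | x ∈ 𝐃 ∧ orderOf x = 2})
    (Set.toFinite _)).2 ⟨t, h.tD, h.t2⟩) h1
  have h3 := h.lt_n
  obtain ⟨f, hf⟩ := Nat.exists_eq_add_of_le' h.two_le_f
  rw [hf] at h2 h3 ⊢
  rw [← Nat.sub_add_cancel h3.le, ← h2, show f + 2 - 1 = f + 1 from rfl]; ring

theorem not_pow (he : Even (Nat.card Ω)) (k : ℕ) : (Δ).ncard ≠ 2 ^ k := fun e => by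
  obtain ⟨x, x1, ho, hx⟩ := exists_odd_inverted_of_not_mem_pCore h.ss fun e => h.nr
    (h.dt.reg_of_solvable (N := pCore 2 G) inferInstance (ne_bot_of_mem e (ne_one_of_orderOf h.s2))
      (pgroup_sol (Core.pCore_isPGroup 2 G)))
  obtain ⟨p, hp, hd⟩ := Nat.exists_prime_and_dvd (orderOf_eq_one_iff.not.2 x1)
  have := Fact.mk hp
  set w := x ^ (orderOf x / p)
  have o : orderOf w = p := orderOf_pow_orderOf_div (orderOf_pos x).ne' hd
  have hw : s * w * s⁻¹ = w⁻¹ := by rw [← conj_pow, hx, inv_pow]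
  have p2 : p ≠ 2 := by rintro rfl; exact ho.not_two_dvd_nat hd
  obtain ⟨c, -, hc⟩ := exists_fix_of_pow (p := p) (k := 1) (g := w) (B := (Set.univ : Set Ω))
    (by rw [pow_one, ← o, pow_orderOf_eq_one]) (fun _ _ => trivial) fun h1 => p2 (by
      rw [Set.ncard_univ, h.card_sq hA hn, e, ← pow_mul] at h1
      exact (Nat.prime_dvd_prime_iff_eq hp Nat.prime_two).1 (hp.dvd_of_dvd_pow h1))
  have hw' : w⁻¹ * s = s * w := by rw [← hw, inv_mul_cancel_right]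
  have h1 := h.uniq hA (h.not_conj hA hn) (IsConj.refl s) (isConj_iff.2 ⟨w⁻¹, rfl⟩)
    (h.fpf hn he (IsConj.refl s) c) (by rw [inv_inv, hw', mul_smul, mul_smul, hc, hc])
  rw [inv_inv, hw', mul_assoc, eq_comm, mul_eq_left, ← pow_two, ← orderOf_dvd_iff_pow_eq_one,
    o] at h1
  exact p2 ((Nat.prime_dvd_prime_iff_eq hp Nat.prime_two).1 h1)

end c

end Cfsg.Lib.HR.St
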