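import Cfsg.Agent.Lib.Ab.Walter
import Cfsg.Agent.Lib.Ab.NoField
import Cfsg.Agent.Lib.W2.Main
import Cfsg.Agent.Lib.TT.V4

/-!
The three types of simple groups with abelian Sylow 2-subgroups.
-/

set_option autoImplicit false

namespace Cfsg.Lib.HR

open Subgroup Cfsg.Lib.BG Cfsg.Lib.BG.A10 Cfsg.Lib.GW Cfsg.Lib.Small Cfsg.Lib.JR Cfsg.Lib.Ab
open Cfsg.Lib.Inv hiding conj_mem_of_mem_normalizer orderOf_eq_of_isConj
open scoped Cfsg.Lib.Transfer MatrixGroups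

variable {G : Type*} [Group G] {G' : Type*} [Group G'] {K N T : Subgroup G} {t x u : G}

/-- `K` is a non-abelian simple group with abelian Sylow 2-subgroups. -/
structure SA (K : Subgroup G) : Prop where
  simp : IsSimpleGroup K
  nab : ¬ IsMulCommutative K
  ab : Ab2 K

/-- Type `L₂(2ⁿ)`, `n ≥ 3`. -/
structure ET (K T : Subgroup G) : Prop where
  ge : 8 ≤ Nat.card T
  cent : ∀ v ∈ T, v ≠ 1 → K ⊓ 𝐂[v] = T
  card : Nat.card K = Nat.card T * (Nat.card T ^ 2 - 1)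

/-- Janko-Ree type. -/
structure RT (K T : Subgroup G) (t : G) : Prop where
  eight : Nat.card T = 8
  sa : SA ⁅K ⊓ 𝐂[t], K ⊓ 𝐂[t]⁆
  nmem : t ∉ ⁅K ⊓ 𝐂[t], K ⊓ 𝐂[t]⁆
  cases : ∀ x ∈ K ⊓ 𝐂[t], x ∈ ⁅K ⊓ 𝐂[t], K ⊓ 𝐂[t]⁆ ∨ t * x ∈ ⁅K ⊓ 𝐂[t], K ⊓ 𝐂[t]⁆
  cC : Nat.card ↥(K ⊓ 𝐂[t]) = 2 * Nat.card ↥⁅K ⊓ 𝐂[t], K ⊓ 𝐂[t]⁆
  ord : Nat.card K = 175560 ∧ Nat.card ↥(K ⊓ 𝐂[t]) = 120 ∨ ∃ j, 1 ≤ j ∧
    Nat.card K = (3 ^ (2 * j + 1)) ^ 3 * ((3 ^ (2 * j + 1)) ^ 3 + 1) * (3 ^ (2 * j + 1) - 1) ∧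
    Nat.card ↥(K ⊓ 𝐂[t]) = 3 ^ (2 * j + 1) * ((3 ^ (2 * j + 1)) ^ 2 - 1)

theorem SA.of_equiv {L : Subgroup G'} [Finite G] (h : SA K) (e : K ≃* L) : SA L :=
  have := h.simp
  ⟨e.symm.isSimpleGroup, fun hc => h.nab ⟨⟨fun x y => e.injective (by
    rw [map_mul, map_mul, hc.1.1])⟩⟩, h.ab.of_equiv e⟩

theorem SA.map [Finite G] (h : SA K) {f : G →* G'} (hf : Function.Injective f) : SA (K.map f) :=
  h.of_equiv (K.equivMapOfInjective f hf)

theorem ET.map (h : ET K T) {f : G →* G'} (hf : Function.Injective f) :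
    ET (K.map f) (T.map f) := by
  refine ⟨by rw [card_map_of_injective hf]; exact h.ge, ?_, by
    rw [card_map_of_injective hf, card_map_of_injective hf, h.card]⟩
  rintro _ ⟨v, hv, rfl⟩ h1
  rw [← map_inf_cent1 hf, h.cent v hv (by rintro rfl; simp at h1)]

theorem RT.map [Finite G] (h : RT K T t) {f : G →* G'} (hf : Function.Injective f) :
    RT (K.map f) (T.map f) (f t) := by
  refine ⟨by rw [card_map_of_injective hf]; exact h.eight, ?_, ?_, ?_, ?_, ?_⟩ <;>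
    rw [← map_inf_cent1 hf]
  · rw [← Subgroup.map_commutator]; exact h.sa.map hf
  · rw [← Subgroup.map_commutator]
    rintro ⟨y, hy, e⟩
    exact h.nmem (hf e ▸ hy)
  · rw [← Subgroup.map_commutator]
    rintro _ ⟨y, hy, rfl⟩
    exact (h.cases y hy).imp (mem_map_of_mem f) fun e => map_mul f t y ▸ mem_map_of_mem f e
  · rw [← Subgroup.map_commutator, card_map_of_injective hf, card_map_of_injective hf, h.cC]
  · rw [card_map_of_injective hf, card_map_of_injective hf]; exact h.ord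

theorem top_map (K : Subgroup G) : (⊤ : Subgroup K).map K.subtype = K := by
  rw [← MonoidHom.range_eq_map, range_subtype]

namespace SA
variable [Finite G] (h : SA K)
include h

theorem kn : Kn K := by
  have := h.simp
  exact Kn.of_top (WConc.kn h.nab h.ab (walter_aux _ K rfl h.nab h.ab))

omit [Finite G] in
theorem nml (hN : N ≤ K) (hn : K ≤ 𝐍(N)) : N = ⊥ ∨ N = K := by
  have := h.simp
  have : (N.subgroupOf K).Normal := (normal_subgroupOf_iff_le_normalizer hN).2 hn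
  rcases (‹(N.subgroupOf K).Normal›).eq_bot_or_eq_top with e | e
  · exact .inl (by rwa [subgroupOf_eq_bot, disjoint_iff, inf_eq_left.2 hN] at e)
  · exact .inr (le_antisymm hN (subgroupOf_eq_top.1 e))

omit [Finite G] in
theorem le_of_inf (hn : K ≤ 𝐍(N)) (hx : x ∈ K) (hN : x ∈ N) (h1 : x ≠ 1) : K ≤ N :=
  ((h.nml inf_le_left (norm_inf (le_norm K) hn)).resolve_left
    (ne_bot_of_mem (mem_inf.2 ⟨hx, hN⟩) h1)).ge.trans inf_le_right

omit [Finite G] in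
theorem perf : ⁅K, K⁆ = K :=
  (h.nml (der_le K) (norm_der (le_norm K))).resolve_left fun e => h.nab (abelian_iff_der.2 e)

omit [Finite G] in
theorem eq_one (hx : x ∈ K) (hc : K ≤ 𝐂[x]) : x = 1 := by_contra fun h1 =>
  h.nab (abelian_iff.2 (h.le_of_inf (norm_cent (le_norm K)) hx (le_cent1_iff.1 hc) h1))

omit [Finite G] in
theorem nsol : ¬ Group.IsSolvable K := fun hs => by
  have := h.simp
  exact h.nab ⟨⟨IsSimpleGroup.comm_iff_isSolvable.2 hs⟩⟩

theorem comm (hT : IsPGroup 2 T) (hle : T ≤ K) : IsMulCommutative T := by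
  have := abelian_map K.subtype (h.ab.comm (hT.comap_subtype (K := K)))
  rwa [← subgroupOf, subgroupOf_map_subtype, inf_eq_left.2 hle] at this

theorem sq (hT : IsPGroup 2 T) (hle : T ≤ K) (hx : x ∈ T) : x * x = 1 :=
  let ⟨P, hP, e⟩ := exists_syl_ge hT hle
  h.kn.sq P hP x (e hx)

theorem one (hT : Syl 2 T K) (ht : t ∈ T) (t1 : t ≠ 1) (hx : x ∈ K) (o : orderOf x = 2) :
    ∃ d ∈ K, d * t * d⁻¹ = x := by
  obtain ⟨y, hy⟩ := h.kn.sing T hT
  obtain ⟨m, hm, e⟩ := syl_conj_le hT (zp_two o) (zpowers_le.2 hx)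
  obtain ⟨g, hg, e'⟩ := hy.trans t ht t1 _ (e (mem_map_of_mem _ (mem_zpowers x)))
    (ne_one_of_orderOf (ord_conj o m))
  refine ⟨m⁻¹ * g, mul_mem (inv_mem hm) (zpowers_le.2 hy.mem hg), ?_⟩
  rw [← mul_left_inj m⁻¹, ← mul_right_inj m, ← mul_assoc m x]
  exact Eq.trans (by group) e'

theorem inner (hP : Syl 2 T K) (hx : x ∈ 𝐍(K)) (hk : x * x = 1) (hc : x ∈ 𝐂(T)) :
    ∃ n ∈ K, n⁻¹ * x ∈ 𝐂(K) := by
  have := h.simp
  have ha := h.comm hP.pgroup hP.le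
  have h2 : 2 ∣ Nat.card K := (pgroup_dvd_card hP.pgroup fun e => by
    have := h.kn.ge T hP; rw [e, card_bot] at this; omega).trans (card_dvd hP.le)
  obtain ⟨P, rfl⟩ := Syl.iff_sylow.1 hP
  let α : MulAut K := K.normalizerMonoidHom ⟨x, hx⟩
  have hα : α ^ 2 ^ 1 = 1 := by
    rw [← map_pow]
    have : (⟨x, hx⟩ : 𝐍(K)) ^ 2 ^ 1 = 1 := Subtype.ext (by simpa [pow_two] using hk)
    rw [this, map_one]
  obtain ⟨j, -, hj⟩ := (Nat.dvd_prime_pow Nat.prime_two).1 (orderOf_dvd_of_pow_eq_one hα)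
  obtain ⟨g, hg⟩ := Cfsg.Agent.S4593.result (center_of_simple h.nab) (core_of_simple h2) P
    ⟨⟨fun a b => Subtype.ext (Subtype.ext
      (le_cent_iff.1 (abelian_cent ha) _ (mem_map_of_mem _ a.2) _ (mem_map_of_mem _ b.2)))⟩⟩
    α ⟨j, hj⟩ (by
    intro y hy
    apply Subtype.ext
    show x * y * x⁻¹ = y
    rw [← mem_cent.1 hc y (mem_map_of_mem K.subtype hy)]; group)
  refine ⟨g, g.2, mem_centralizer_iff.2 fun y hy => ?_⟩
  have := congrArg Subtype.val (hg ⟨y, hy⟩)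
  change x * y * x⁻¹ = g * y * (g : G)⁻¹ at this
  calc y * ((g : G)⁻¹ * x) = (g : G)⁻¹ * (g * y * (g : G)⁻¹) * x := by group
    _ = _ := by rw [← this]; group

end SA

section top
variable [Finite G] [IsSimpleGroup G]

theorem et_top (hA : Ab2 G) (hT : Syl 2 T ⊤) {F : Type*} [Field F] [Finite F]
    (hq : ¬ Odd (Nat.card F)) (e : G ≃* PSL(2, F)) :
    (∀ v ∈ T, v * v = 1 → v ≠ 1 → 𝐂[v] = T) ∧ Nat.card G = Nat.card T * (Nat.card T ^ 2 - 1) := by
  refine ⟨fun v hv h2 h1 => (syl_eq_of_le hT ?_ le_top ((hA.le_cent hT.pgroup le_rfl).trans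
    (cent_le_cent1 hv))).symm, ?_⟩
  · have h3 : orderOf (e v) = 2 := (e.orderOf_eq v).trans (orderOf_eq_two_iff.2 ⟨h1, h2⟩)
    refine ((psl_two_cent hq h3).comap_of_injective e.toMonoidHom e.injective).to_le fun x hx => ?_
    exact mem_cent1.2 (by
      show e x * e v = e v * e x
      rw [← map_mul, mem_cent1.1 hx, map_mul])
  have c := PSL2.card_PSL2_mul (K := F)
  have h1 : 1 < Nat.card F := Finite.one_lt_card
  obtain ⟨k, hk⟩ := Nat.not_odd_iff_even.1 hq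
  rw [show Nat.gcd 2 (Nat.card F - 1) = 1 from (Nat.coprime_two_left.2 ⟨k - 1, by omega⟩),
    one_mul, ← Nat.card_congr e.toEquiv] at c
  have := Fintype.ofFinite F
  obtain ⟨p, hp, n, hp', hn⟩ := FiniteField.card' F
  rw [← Nat.card_eq_fintype_card] at hn
  obtain rfl : p = 2 := ((Nat.prime_dvd_prime_iff_eq Nat.prime_two hp').1
    (Nat.prime_two.dvd_of_dvd_pow (n := n) ⟨k, by omega⟩)).symm
  obtain ⟨m, hm⟩ := IsPGroup.iff_card.1 hT.pgroup
  have h3 := card_mul_relIndex hT.le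
  have h4 := hT.not_dvd'
  rw [card_top, c, hm, hn] at h3
  have o : ¬ 2 ∣ (2 ^ (n : ℕ)) ^ 2 - 1 := by
    rw [← hn, hk]
    have : 1 ≤ (k + k) ^ 2 := Nat.one_le_pow _ _ (by omega)
    rw [show (k + k) ^ 2 = 2 * (2 * k ^ 2) by ring] at this ⊢
    omega
  have h5 : m = n := le_antisymm
    ((Nat.pow_dvd_pow_iff_le_right one_lt_two).1 (Nat.Coprime.dvd_of_dvd_mul_right
      (Nat.Coprime.pow_left m ((Nat.Prime.coprime_iff_not_dvd Nat.prime_two).2 o)) ⟨_, h3.symm⟩))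
    ((Nat.pow_dvd_pow_iff_le_right one_lt_two).1 (Nat.Coprime.dvd_of_dvd_mul_right
      (Nat.Coprime.pow_left n ((Nat.Prime.coprime_iff_not_dvd Nat.prime_two).2 h4)) ⟨_, h3⟩))
  rw [c, hm, h5, hn]

theorem rt_top (hG : ¬ IsMulCommutative G) {F : Type*} [Field F] [Finite F] {E : Subgroup G}
    (h5 : 5 ≤ Nat.card F) (h : JRS F t E N) (hT : Syl 2 T ⊤) (ht : t ∈ T) : RT ⊤ T t := by
  obtain rfl := h.eq_of_simple
  obtain ⟨e⟩ := h.iso
  have hs : IsSimpleGroup PSL(2, F) := PSL2.isSimpleGroup_psl (by omega)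
  have hE : SA E := ⟨e.isSimpleGroup, fun hc => PSL2.not_isMulCommutative_psl (F := F)
    ⟨⟨fun x y => e.symm.injective (by rw [map_mul, map_mul, hc.1.1])⟩⟩, h.ab.sub E⟩
  have hle : E ≤ 𝐂[t] := fun x hx => h.mem_cent_iff.2 (.inl hx)
  have hd : ⁅𝐂[t], 𝐂[t]⁆ = E := le_antisymm (comm_le_iff.2 fun x hx y hy => by
    have k : ∀ z ∈ 𝐂[t], ∃ w ∈ E, z = w ∨ z = t * w := fun z hz =>
      (h.mem_cent_iff.1 hz).elim (fun e => ⟨z, e, .inl rfl⟩) fun e =>
        ⟨_, e, .inr (by rw [← mul_assoc, h.tt, one_mul])⟩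
    obtain ⟨v, hv, e1⟩ := k x hx
    obtain ⟨w, hw, e2⟩ := k y hy
    have c1 : Commute t v := h.comm hv
    have c2 : Commute t w := h.comm hw
    have : x * y * x⁻¹ * y⁻¹ = v * w * v⁻¹ * w⁻¹ := by
      have k1 : ∀ z, Commute t z → t * v * z * (t * v)⁻¹ = v * z * v⁻¹ := fun z c => by
        rw [mul_inv_rev, ← mul_assoc, mul_assoc t, mul_assoc t,
          ((c1.mul_right c).mul_right c1.inv_right).eq, mul_inv_cancel_right]
      have k2 : v * (t * w) * v⁻¹ * (t * w)⁻¹ = v * w * v⁻¹ * w⁻¹ := by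
        rw [← mul_assoc v, ← c1.eq, mul_inv_rev, ← mul_assoc, mul_assoc t, mul_assoc t, mul_assoc t,
          (((c1.mul_right c2).mul_right c1.inv_right).mul_right c2.inv_right).eq,
          mul_inv_cancel_right]
      rcases e1 with rfl | rfl <;> rcases e2 with rfl | rfl
      exacts [rfl, k2, by rw [k1 _ c2], by rw [k1 _ ((Commute.refl t).mul_right c2), k2]]
    exact this ▸ mul_mem (mul_mem (mul_mem hv hw) (inv_mem hv)) (inv_mem hw))
    (hE.perf.ge.trans (der_mono hle))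
  have hc : Nat.card 𝐂[t] = 2 * Nat.card E := by
    rw [← card_mul_relIndex hle, mul_comm, relIndex, index_eq_two_iff.2 ⟨⟨t, self_mem_cent1 t⟩,
      fun x => ?_⟩]
    have k : (x : G) * t ∈ E ↔ t * x ∈ E := by rw [mem_cent1.1 x.2]
    simp only [mem_subgroupOf, coe_mul, k]
    rcases h.mem_cent_iff.1 x.2 with e | e
    · exact .inr ⟨e, fun e' => h.not_mem ((mul_mem_cancel_right e).1 e')⟩
    · exact .inl ⟨e, fun e' => h.not_mem ((mul_mem_cancel_right e').1 e)⟩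
  have c := PSL2.card_PSL2_mul (K := F)
  obtain ⟨k, hk⟩ := h.odd
  rw [Nat.gcd_eq_left (by omega), ← Nat.card_congr e.toEquiv, ← hc] at c
  refine ⟨h.syl_card hT ht, ?_, ?_, ?_, ?_, ?_⟩ <;> rw [top_inf_eq]
  · rwa [hd]
  · exact hd ▸ h.not_mem
  · exact hd ▸ fun x => h.mem_cent_iff.1
  · rwa [hd]
  rw [card_top]
  rcases W2.janko_ree h.ab (F := F) (by omega) h.ord (by rw [hc, Nat.card_congr e.toEquiv]) with
    ⟨j, h1, h2, h3⟩ | ⟨h1, ⟨e'⟩⟩
  · exact .inr ⟨j, h1, h3, by rw [c, h2]⟩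
  · exact .inl ⟨by rw [Nat.card_congr e'.toEquiv, J1.card_J1], by
      rw [c, h1.resolve_left (by omega)]; rfl⟩

theorem tri_top (hG : ¬ IsMulCommutative G) (hA : Ab2 G) (hT : Syl 2 T ⊤) :
    Nat.card T = 4 ∨ ET ⊤ T ∨ ∀ t ∈ T, t ≠ 1 → RT ⊤ T t := by
  have h : SA (⊤ : Subgroup G) := ⟨topEquiv.isSimpleGroup, fun hc => hG ⟨⟨fun x y =>
    le_cent_iff.1 (abelian_cent hc) x (mem_top x) y (mem_top y)⟩⟩, hA.sub _⟩
  rcases walter hG hA with ⟨F, _, _, -, ⟨e⟩⟩ | ⟨F, _, _, z, E, N, h5, hj, -⟩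
  · by_cases hq : Odd (Nat.card F)
    · have := psl_syl_four hq (hA.of_equiv e) (P := T.map e.toMonoidHom)
        (map_top_of_surjective e.toMonoidHom e.surjective ▸ hT.map e.toMonoidHom)
      exact .inl ((card_map_of_injective e.injective).symm.trans this.card_four)
    obtain ⟨h1, h2⟩ := et_top hA hT hq e
    obtain ⟨m, hm⟩ := IsPGroup.iff_card.1 hT.pgroup
    have h3 := h.kn.ge T hT
    refine or_iff_not_imp_left.2 fun h4 => .inl ⟨?_, fun v hv v1 => by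
      rw [top_inf_eq, h1 v hv (h.kn.sq T hT v hv) v1], by rwa [card_top]⟩
    rw [hm] at h3 h4 ⊢
    rcases m with _ | _ | _ | m
    exacts [by omega, by omega, by omega, by rw [pow_succ, pow_succ, pow_succ] at *; omega]
  · refine .inr (.inr fun t ht t1 => ?_)
    obtain ⟨d, -, e⟩ := h.one hT ht t1 (mem_top z) hj.ord
    have := (rt_top hG (Nat.card_eq_fintype_card (α := F) ▸ h5) hj (hT.conj_top d)
      (e ▸ mem_map_of_mem _ ht)).map (MulAut.conj d⁻¹).injective (f := (MulAut.conj d⁻¹).toMonoidHom)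
    rw [Transfer.conj_top, Transfer.inv_conj_conj, ← e] at this
    simpa [mul_assoc] using this

end top

theorem SA.tri [Finite G] (h : SA K) (hT : Syl 2 T K) :
    Nat.card T = 4 ∨ ET K T ∨ ∀ t ∈ T, t ≠ 1 → RT K T t := by
  have := h.simp
  obtain ⟨P, rfl⟩ := Syl.iff_sylow.1 hT
  refine (tri_top h.nab h.ab (Syl.of_sylow_top P)).imp
    (fun e => (card_map_of_injective K.subtype_injective).trans e) (Or.imp
      (fun e => by have := e.map K.subtype_injective; rwa [top_map] at this) fun e => ?_)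
  rintro _ ⟨t, ht, rfl⟩ t1
  have := (e t ht (by rintro rfl; simp at t1)).map K.subtype_injective
  rwa [top_map] at this

end Cfsg.Lib.HR
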