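import Cfsg.Agent.Lib.HR.Typ
import Cfsg.Agent.Lib.Small.Recog
import Cfsg.Agent.Lib.Char.Burnside

/-!
Simple groups with a Sylow four-group.
-/

set_option autoImplicit false

namespace Cfsg.Lib.HR

open Subgroup Cfsg.Lib.BG Cfsg.Lib.BG.A10 Cfsg.Lib.GW Cfsg.Lib.Small Cfsg.Lib.JR Cfsg.Lib.Ab
open Cfsg.Lib.Inv hiding conj_mem_of_mem_normalizer orderOf_eq_of_isConj
open scoped Cfsg.Lib.Transfer MatrixGroups

variable {G : Type*} [Group G] {G' : Type*} [Group G'] {K N T : Subgroup G} {t x u g : G} {b : ℕ}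

/-- Type `L₂(q)`, `q ≡ ±3 mod 8`. -/
structure PT (K : Subgroup G) (t u : G) (b : ℕ) : Prop where
  four : FourGen t u
  syl : Syl 2 four.four K
  cent : K ⊓ 𝐂(four.four) ≤ four.four
  odd : Odd b
  cC : Nat.card ↥(K ⊓ 𝐂[t]) = 4 * b
  inv : {x | x ∈ K ∧ x ∈ II t}.ncard = 2 * b
  num : ∃ ε : ℤ, (ε = 1 ∨ ε = -1) ∧ (Nat.card K : ℤ) = 4 * b * ((4 * b + ε) * (2 * b + ε))

theorem PT.map (h : PT K t u b) {f : G →* G'} (hf : Function.Injective f) :
    PT (K.map f) (f t) (f u) b := by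
  refine ⟨h.four.map hf, ?_, ?_, h.odd, ?_, ?_, ?_⟩
  · rw [h.four.four_map hf]; exact h.syl.map f
  · rw [h.four.four_map hf, ← map_inf_cent hf]; exact map_mono h.cent
  · rw [← map_inf_cent1 hf, card_map_of_injective hf, h.cC]
  · rw [← h.inv, ← Set.ncard_image_of_injective _ hf]
    congr 1
    ext y
    constructor
    · rintro ⟨⟨x, hx, rfl⟩, h1, h2, h3⟩
      exact ⟨x, ⟨hx, mem_cent1.2 (hf (by rw [map_mul, map_mul]; exact mem_cent1.1 h1)),
        (orderOf_injective f hf x).symm.trans h2, fun e => h3 (congrArg f e)⟩, rfl⟩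
    · rintro ⟨x, ⟨hx, h1, h2, h3⟩, rfl⟩
      exact ⟨mem_map_of_mem f hx, mem_cent1.2 (by rw [← map_mul, mem_cent1.1 h1, map_mul]),
        (orderOf_injective f hf x).trans h2, fun e => h3 (hf e)⟩
  · rw [card_map_of_injective hf]; exact h.num

variable [Finite G]

theorem pt_top [IsSimpleGroup G] (hG : ¬ IsMulCommutative G) (hA : Ab2 G) (f : FourGen t u)
    (hT : Syl 2 f.four ⊤) : ∃ b, PT ⊤ t u b := by
  have h : SA (⊤ : Subgroup G) := ⟨topEquiv.isSimpleGroup, fun hc => hG ⟨⟨fun x y =>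
    le_cent_iff.1 (abelian_cent hc) x (mem_top x) y (mem_top y)⟩⟩, hA.sub _⟩
  obtain ⟨y, h1, h2, h3⟩ := exists_odd_not_cent hA (pRes_of_simple hG) hT
    (ne_bot_of_mem f.left_mem f.ne_one)
  obtain ⟨r, -, hr⟩ := exists_cyc_of_odd f h1 h2 h3
  have c0 := card_mul_relIndex hT.le
  have n2 := hT.not_dvd'
  rw [f.card_four, card_top] at c0
  have V : TT.V4 t u r := ⟨f, hr, by omega⟩
  have hc := h.kn.cent _ hT f.card_four
  have e : 𝐂[t] ⊓ 𝐂[u] = f.four := by
    rw [← cent_four f]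
    exact le_antisymm (le_trans (le_inf le_top le_rfl) hc) (abelian_cent (four_abelian f))
  have c1 := card_mul_relIndex (inf_le_left : 𝐂[t] ⊓ 𝐂[u] ≤ _)
  rw [inf_relIndex_left, e, f.card_four] at c1
  have c2 := 𝐂[t].card_mul_index
  have hO : oddCore G = ⊥ := ((inferInstance : (oddCore G).Normal).eq_bot_or_eq_top).resolve_right
    fun e => by
      have := Core.odd_card_oddCore G
      rw [e, card_top, ← c0] at this
      exact absurd this (by simp [Nat.odd_mul, show ¬ Odd 4 by decide])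
  obtain ⟨ε, h4, h5⟩ := V.core hO
  refine ⟨𝐂[u].relIndex 𝐂[t], f, hT, hc, Nat.odd_iff.2 ?_, by rw [top_inf_eq, c1], ?_, ε, h4, ?_⟩
  · rw [← c1, ← c0, mul_assoc] at c2
    have := Nat.eq_of_mul_eq_mul_left four_pos c2
    by_contra h6
    exact n2 (this ▸ Dvd.dvd.mul_right (by omega) _)
  · rw [← V.kk_eq, kk]; simp
  · rw [card_top, ← c2, ← c1, ← h5]; push_cast; ring

theorem SA.pt (h : SA K) (f : FourGen t u) (hT : Syl 2 f.four K) : ∃ b, PT K t u b := by
  have := h.simp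
  have ht := hT.le f.left_mem
  have hu := hT.le f.right_mem
  have f0 : FourGen (⟨t, ht⟩ : K) ⟨u, hu⟩ := ⟨by simpa using f.1, by simpa using f.2,
    by simpa using f.3, Subtype.ext f.4, Subtype.ext f.5, Subtype.ext f.6⟩
  obtain ⟨b, hb⟩ := pt_top h.nab h.ab f0 ((Hall.map_iff K.subtype_injective).1 (by
    rw [top_map, ← f0.four_map K.subtype_injective]; exact hT))
  have := hb.map K.subtype_injective
  exact ⟨b, by rwa [top_map] at this⟩

theorem SA.psl (h : SA K) (hT : Syl 2 T K) (h4 : Nat.card T = 4) :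
    ∃ (F : Type) (_ : Field F) (_ : Fintype F), Odd (Nat.card F) ∧ Nonempty (K ≃* PSL(2, F)) := by
  have := h.simp
  have sq := h.kn.sq T hT
  obtain ⟨P, rfl⟩ := Syl.iff_sylow.1 hT
  obtain ⟨F, i1, i2, h1, -, h2⟩ := gw_four (Syl.of_sylow_top P) (klein_of_sq
    (fun v hv => Subtype.ext (sq _ (mem_map_of_mem _ hv)))
    ((card_map_of_injective K.subtype_injective).symm.trans h4))
  exact ⟨F, i1, i2, by rwa [Nat.card_eq_fintype_card], h2⟩

namespace PT
variable (h : PT K t u b)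
include h

omit [Finite G] in
theorem le : h.four.four ≤ K ⊓ 𝐂[t] := le_inf h.syl.le
  ((abelian_cent (four_abelian h.four)).trans (cent_le_cent1 h.four.left_mem))

theorem norm (hg : g ∈ K) (h1 : g ∈ 𝐂[t]) (h2 : g ∈ 𝐍(h.four.four)) : g ∈ h.four.four :=
  h.cent ⟨hg, (mem_cent_four _).2 ⟨h1, TT.cent_of_norm h.four h.syl hg h1
    (conj_mem_of_norm h2 h.four.right_mem)⟩⟩

theorem conj (hx : x ∈ K) (h1 : x ∈ II t) :
    ∃ c ∈ K ⊓ 𝐂[t], c * u * c⁻¹ = x ∨ c * (t * u) * c⁻¹ = x := by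
  have f := h.four
  have f' := four_of_II f.orderOf_eq h1
  obtain ⟨m, hm, e⟩ := syl_conj_le (h.syl.of_le h.le inf_le_left) (four_pgroup f')
    (f'.four_le_iff.2 ⟨h.le f.left_mem, hx, h1.1⟩)
  have h1 := conj_mem_II hm.2 h1
  have h2 : m⁻¹ * (m * x * m⁻¹) * m⁻¹⁻¹ = x := by group
  rcases f.mem_four.1 (e (mem_map_of_mem _ f'.right_mem)) with e | e | e | e <;>
    replace e : m * x * m⁻¹ = _ := e
  · exact absurd e (ne_one_of_orderOf h1.2.1)
  · exact absurd e h1.2.2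
  · exact ⟨_, inv_mem hm, .inl (e ▸ h2)⟩
  · exact ⟨_, inv_mem hm, .inr (e ▸ h2)⟩

theorem a5 (hK : SA K) (h1 : b = 1) : Nonempty (K ≃* alternatingGroup (Fin 5)) := by
  have := hK.simp
  obtain ⟨ε, rfl | rfl, e⟩ := h.num <;> rw [h1] at e
  · exact equiv_alt_five_of_simple (by omega)
  · exact absurd (Char.isSolvable_of_card_dvd_pow_mul_pow K (a := 2) (b := 1) Nat.prime_two
      Nat.prime_three (by rw [show Nat.card K = 12 by omega]; rfl)) hK.nsol

end PT

end Cfsg.Lib.HR
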