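import Cfsg.Agent.Lib.HR.Ne

/-!
A weak closure argument.
-/

set_option autoImplicit false

namespace Cfsg.Lib.HR

open Subgroup Cfsg.Lib.BG Cfsg.Lib.BG.A10 Cfsg.Lib.GW Cfsg.Lib.Small Cfsg.Lib.TT
open Cfsg.Lib.Inv hiding conj_mem_of_mem_normalizer orderOf_eq_of_isConj
open scoped Cfsg.Lib.Transfer

variable {G : Type*} [Group G] [Finite G] {s t v x g k : G} {T E X P : Subgroup G}

theorem half (hE : ∀ x ∈ E, x ∈ X ∨ s * x ∈ X) : Nat.card E ≤ 2 * Nat.card ↥(E ⊓ X) := by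
  by_cases h : E ≤ X
  · rw [inf_eq_left.2 h]; omega
  obtain ⟨y, hy, hn⟩ := SetLike.not_le_iff_exists.1 h
  rw [← ncard_coe, ← ncard_coe, two_mul]
  refine (Set.ncard_le_ncard (t := ↑(E ⊓ X) ∪ (y * ·) '' ↑(E ⊓ X)) fun x hx => ?_).trans
    ((Set.ncard_union_le ..).trans_eq (by rw [Set.ncard_image_of_injective _ (mul_right_injective y)]))
  exact (hE x hx).imp (mem_inf.2 ⟨hx, ·⟩) fun e => ⟨y⁻¹ * x, mem_inf.2 ⟨mul_mem (inv_mem hy) hx, by
    simpa [mul_assoc] using mul_mem (inv_mem ((hE y hy).resolve_left hn)) e⟩, by simp⟩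

/-- `s` acts freely on the elementary abelian group `T`, and the involutions of a `2`-subgroup
of `N(T)` containing `T ⟨s⟩` lie in `T ⟨s⟩`. -/
structure WC (T : Subgroup G) (s : G) : Prop where
  pg : IsPGroup 2 T
  sq : ∀ v ∈ T, v * v = 1
  comm : T ≤ 𝐂(T)
  s2 : orderOf s = 2
  sT : s ∈ 𝐍(T)
  ns : s ∉ T
  orb : ∀ v ∈ T ⊓ 𝐂[s], ∃ w ∈ T, w * s * w⁻¹ = s * v
  card : Nat.card ↥(T ⊓ 𝐂[s]) ^ 2 = Nat.card T
  ge : 8 ≤ Nat.card T
  inv : ∀ P : Subgroup G, IsPGroup 2 P → P ≤ 𝐍(T) → T ≤ P → s ∈ P → ∀ x ∈ P, x * x = 1 →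
    x ∈ T ∨ s * x ∈ T

namespace WC
variable (h : WC T s)
include h

local notation "𝐙" => T ⊓ 𝐂[s]

theorem big : 2 < Nat.card ↥𝐙 := by
  have h1 := h.card
  have h2 := h.ge
  by_contra! e
  nlinarith

theorem small (hP : IsPGroup 2 P) (h1 : P ≤ 𝐍(T)) (h2 : T ≤ P) (h3 : s ∈ P) (hE : E ≤ P)
    (hc : E ≤ 𝐂(E)) (hq : ∀ x ∈ E, x * x = 1) (hn : ¬ E ≤ T) :
    E ⊓ T ≤ 𝐙 ∧ Nat.card E ≤ 2 * Nat.card ↥(E ⊓ T) := by
  have k := fun x hx => h.inv P hP h1 h2 h3 x (hE hx) (hq x hx)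
  obtain ⟨y, hy, hn⟩ := SetLike.not_le_iff_exists.1 hn
  exact ⟨fun v hv => ⟨hv.2, mem_cent1_symm ((mul_mem_cancel_right (cent_le_cent1 hv.1 (hc hy))).1
    (cent_le_cent1 hv.2 (h.comm ((k y hy).resolve_left hn))))⟩, half k⟩

theorem wc0 (hP : IsPGroup 2 P) (h1 : P ≤ 𝐍(T)) (h2 : T ≤ P) (h3 : s ∈ P) (hg : g ⋆ T ≤ P) :
    g ⋆ T = T := by
  refine eq_of_le_of_card_le (by_contra fun e => ?_) (Transfer.card_conj g T).ge
  obtain ⟨h4, h5⟩ := h.small hP h1 h2 h3 hg (Transfer.conj_centralizer g T ▸ map_mono h.comm) (by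
    rintro _ ⟨v, hv, rfl⟩
    rw [← map_mul, h.sq v hv, map_one]) e
  rw [Transfer.card_conj, ← h.card] at h5
  have := card_le_of_le h4
  have := h.big
  nlinarith

theorem exists_syl : ∃ S, Syl 2 S ⊤ ∧ S ≤ 𝐍(T) ∧ T ≤ S ∧ s ∈ S := by
  obtain ⟨S, hS, hle⟩ := exists_syl_ge (pgroup_sup h.pg (zp_two h.s2) (zp_norm.2 h.sT))
    (sup_le (le_norm T) (zpowers_le.2 h.sT))
  have h1 := le_sup_left.trans hle
  have h2 := hle (mem_sup_right (mem_zpowers s))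
  exact ⟨S, syl_of_norm_le hS le_top fun g hg => norm_of_conj_eq
    (h.wc0 hS.pgroup hS.le h1 h2 (conj_le_of_norm h1 hg.2)), hS.le, h1, h2⟩

theorem wc (hP : IsPGroup 2 P) (hg : g ⋆ T ≤ P) (hk : k ⋆ T ≤ P) : g ⋆ T = k ⋆ T := by
  obtain ⟨S, hS, h1, h2, h3⟩ := h.exists_syl
  obtain ⟨m, -, hm⟩ := syl_conj_le hS hP le_top
  have e : ∀ g, g ⋆ T ≤ P → m ⋆ (g ⋆ T) = T := fun g hg => by
    rw [Transfer.conj_conj]
    exact h.wc0 hS.pgroup h1 h2 h3 (Transfer.conj_conj m g T ▸ (map_mono hg).trans hm)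
  exact map_injective (MulAut.conj m).injective ((e g hg).trans (e k hk).symm)

omit [Finite G] in
theorem leC : T ⊔ zpowers s ≤ 𝐂(𝐙) :=
  sup_le (h.comm.trans (cent_anti inf_le_left)) (zpowers_le.2 (le_cent1_iff.1 inf_le_right))

theorem cent (hx : x ∈ 𝐍(𝐙)) (h2 : x * x = 1) : x ∈ 𝐂(𝐙) := by
  obtain ⟨P, hP, hle⟩ := exists_syl_ge (pgroup_sup h.pg (zp_two h.s2) (zp_norm.2 h.sT))
    (h.leC.trans (cent_le_norm _))
  have h1 := le_sup_left.trans hle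
  obtain ⟨n, hn, e⟩ := syl_conj_le hP (isPGroup_zpowers (k := 1) (by rw [pow_one, pow_two, h2]))
    (zpowers_le.2 hx)
  have h3 : n * x * n⁻¹ ∈ 𝐂(𝐙) := (h.inv P hP.pgroup (fun y hy => norm_of_conj_eq
    ((h.wc hP.pgroup (conj_le_of_mem h1 hy) (conj_le_of_mem h1 (one_mem _))).trans
      (conj_eq_of_mem (one_mem _)))) h1 (hle (mem_sup_right (mem_zpowers s))) _
    (e (mem_map_of_mem _ (mem_zpowers x))) (by rw [← map_mul, h2, map_one])).elim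
      (fun e => h.leC (mem_sup_left e)) fun e => (mul_mem_cancel_left
        (h.leC (mem_sup_right (mem_zpowers s)))).1 (h.leC (mem_sup_left e))
  simpa [mul_assoc] using conj_mem_of_norm' (norm_cent le_rfl hn) h3

theorem false (h1 : OneC G) : False := by
  have ss := mul_self_of_orderOf h.s2
  have sZ := h.leC (mem_sup_right (mem_zpowers s))
  have mA := fun x => W2.mem_sup_zp (x := x) ss (cent_le_norm _ sZ)
  set A := 𝐙 ⊔ zpowers s
  have As : A ≤ 𝐂[s] := sup_le inf_le_right (zpowers_le.2 (self_mem_cent1 s))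
  have cA : A ≤ 𝐂(A) := sup_le (cent_symm ((sup_le_sup_right inf_le_left _).trans h.leC))
    (zpowers_le.2 (le_cent1_iff.1 As))
  have qA : ∀ x ∈ A, x * x = 1 := fun x hx => ((mA x).1 hx).elim (fun e => h.sq x e.1) fun e => by
    have := h.sq _ e.1
    rwa [mul_assoc, ← mul_assoc s, ← mem_cent1.1 (As hx), mul_assoc x s, ss, mul_one] at this
  have pA : IsPGroup 2 A := fun x => ⟨1, Subtype.ext (by simpa [pow_two] using qA x x.2)⟩
  have nA : T ≤ 𝐍(A) := fun w hw => Transfer.mem_normalizer_of_conj_le (by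
    rw [Transfer.conj_sup, Transfer.conj_zpowers, conj_eq_of_cent (h.leC (mem_sup_left hw))]
    refine sup_le le_sup_left (zpowers_le.2 ((mA _).2 (.inr ⟨?_, mem_cent1.2 ?_⟩)))
    · simpa [mul_assoc, inv_eq_of_mul_self ss] using
        mul_mem hw (conj_mem_of_norm h.sT (inv_mem hw))
    have := mem_cent.1 (h.comm hw) _ (conj_mem_of_norm h.sT hw)
    rw [inv_eq_of_mul_self ss] at this
    rw [inv_eq_of_mul_self (h.sq w hw), mul_assoc _ s s, ss, mul_one]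
    exact .trans (by simp [← mul_assoc, ss]) ((congrArg (s * ·) this).trans (by simp [mul_assoc])))
  obtain ⟨S, hS, h2, h3, h4⟩ := h.exists_syl
  obtain ⟨t, ht, t1⟩ := exists_ne_one (nil_meet_center hS.pgroup.isNilpotent h3 h2 fun e => by
    have := h.ge; rw [e, card_bot] at this; omega)
  obtain ⟨g, e⟩ := isConj_iff.1 (h1 s t h.s2 (orderOf_eq_two_iff.2 ⟨t1, h.sq t ht.1⟩))
  obtain ⟨m, hm, hk⟩ := syl_conj_le (hS.of_le (le_cent1_iff.2 ht.2) le_top) ((pgroup_conj g).2 pA)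
    (e ▸ conj_cent1 g s ▸ map_mono As)
  rw [Transfer.conj_conj] at hk
  replace e : m * g * s * (m * g)⁻¹ = t := .trans (by rw [← e]; group) (cent1_iff.1 hm)
  generalize m * g = k at hk e
  by_cases h5 : k ⋆ A ≤ T
  · obtain ⟨P, hP, hle⟩ := exists_syl_ge ((pgroup_conj k).2 h.pg)
      (Transfer.conj_normalizer k A ▸ map_mono nA)
    obtain ⟨n, hn, e'⟩ := syl_conj_le hP h.pg ((h.comm.trans (cent_anti h5)).trans (cent_le_norm _))
    have h6 : n ⋆ (k ⋆ A) ≤ n ⋆ T := map_mono h5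
    rw [conj_eq_of_norm hn, h.wc hP.pgroup e' hle] at h6
    exact h.ns ((map_le_map_iff_of_injective (MulAut.conj k).injective).1 h6
      (mem_sup_right (mem_zpowers s)))
  obtain ⟨h6, h7⟩ := h.small hS.pgroup h2 h3 h4 hk (Transfer.conj_centralizer k A ▸ map_mono cA) (by
    rintro _ ⟨v, hv, rfl⟩
    rw [← map_mul, qA v hv, map_one]) h5
  rw [Transfer.card_conj, ← (W2.sd_zp h.s2 (cent_le_norm _ sZ) fun e => h.ns e.1).card,
    Nat.card_zpowers, h.s2] at h7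
  replace h6 := eq_of_le_of_card_le h6 (by omega)
  have tZ := h6.le ⟨e ▸ mem_map_of_mem _ (mem_sup_right (mem_zpowers s)), ht.1⟩
  have h8 : ∀ x ∈ 𝐙, x ∈ k ⋆ 𝐙 ∨ t * x ∈ k ⋆ 𝐙 := fun x hx => by
    obtain ⟨y, hy, rfl⟩ := (h6.ge hx).1
    exact ((mA y).1 hy).imp (mem_map_of_mem _) fun e' => ⟨_, e', by
      rw [mem_cent1.1 (As hy), map_mul, ← e]; rfl⟩
  obtain ⟨_, ⟨hz, v, hv, rfl⟩, z1⟩ := exists_ne_one (A := 𝐙 ⊓ k ⋆ 𝐙) fun e' => by
    have h9 := half h8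
    have := h.big
    rw [e', card_bot] at h9
    omega
  obtain ⟨w, hw, e'⟩ := h.orb v hv
  have h9 : k * w * k⁻¹ * t * (k * w * k⁻¹)⁻¹ = t * (k * v * k⁻¹) := by
    rw [← e, ← cj_mul k s v, ← e']; group
  have h10 : k * w * k⁻¹ ∈ 𝐂(k ⋆ 𝐙) :=
    Transfer.conj_centralizer k 𝐙 ▸ mem_map_of_mem _ (h.leC (mem_sup_left hw))
  have h11 := h.cent (x := k * w * k⁻¹) (Transfer.mem_normalizer_of_conj_le (by
    rintro _ ⟨x, hx, rfl⟩
    change k * w * k⁻¹ * x * (k * w * k⁻¹)⁻¹ ∈ _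
    rcases h8 x hx with e | e <;> replace e := cent1_iff.1 (cent_le_cent1 e h10)
    · rwa [e]
    · rw [cj_mul, h9] at e
      rw [eq_inv_mul_of_mul_eq e]
      exact mul_mem (inv_mem (mul_mem tZ hz)) (mul_mem tZ hx)))
    (by rw [← cj_mul, h.sq w hw, mul_one, mul_inv_cancel])
  exact z1 (left_eq_mul.1 ((cent1_iff.1 (cent_le_cent1 tZ h11)).symm.trans h9))

end WC

end Cfsg.Lib.HR
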